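import Cfsg.Agent.Lib.Presented.J4Cent.Reps

/-!
The involution centraliser of the presented fourth Janko group, given that this group is simple of the order of
the fourth Janko group.
-/
set_option autoImplicit false
set_option maxRecDepth 20000

namespace CfsgLib.J4Cent

open CfsgLib.J4Mult Cfsg Cfsg.Spor

theorem index_hSub (hJ : Cfsg.IsJ4 J4) : hSub.index = 173067389 := by
  rw [← Reps.subH_eq]
  have h3 := Subgroup.card_mul_index J4DCE.J.subH
  rw [hJ.2] at h3
  have h1 : J4DCE.J.subH.index ≤ 173067389 := J4DCE.J.cosets_card_le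
  refine le_antisymm h1 ?_
  by_contra hc
  push Not at hc
  have := Nat.mul_lt_mul_of_le_of_lt J4DCE.J.subH_card_le hc (by norm_num)
  omega

/-- the centraliser of an involution in the presented group -/
theorem exists_structure (hJ : Cfsg.IsJ4 J4) :
    ∃ z : J4, orderOf z = 2 ∧ ∃ (Q N M : Subgroup (Subgroup.centralizer ({z} : Set J4))), Q.Normal ∧ N.Normal ∧
      Q ≤ N ∧ N ≤ M ∧ Nat.card Q = 2 ^ 13 ∧ Cfsg.IsExtraspecial 2 Q ∧ Nat.card N = 3 * 2 ^ 13 ∧ M.index = 2 ∧
      ∃ (_ : (N.subgroupOf M).Normal), Cfsg.IsM22 (M ⧸ N.subgroupOf M) :=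
  structure_J4 hJ (index_hSub hJ) (Reps.tSet_le hJ.1)

end CfsgLib.J4Cent
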