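import Cfsg.Agent.Lib.Presented.J4Cent.Data
import Cfsg.Agent.Lib.Presented.Word
import Cfsg.Agent.Lib.Golay.Mathieu

/-!
Two permutations of the 24 points with their action on 77 octads through two fixed points, and a lower
bound for the group they generate.
-/
set_option autoImplicit false
set_option maxRecDepth 20000

namespace CfsgLib.J4Cent

open Cfsg CfsgLib.Presented

/-- the map of a table on positions -/
def tblFun (l : List ℕ) (i : Fin 24) : Fin 24 := Fin.ofNat 24 (l.getD i.val 0)

/-- the inverse table -/
def tblInv (l : List ℕ) : List ℕ := (List.range 24).map fun i => l.idxOf i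

/-- the element `1` on positions -/
def posPermY : Equiv.Perm (Fin 24) :=
  ⟨tblFun posY, tblFun (tblInv posY), by decide +kernel, by decide +kernel⟩

/-- the element `6` on positions -/
def posPermE : Equiv.Perm (Fin 24) :=
  ⟨tblFun posE, tblFun (tblInv posE), by decide +kernel, by decide +kernel⟩

/-- the element `1` on points -/
def pY : Equiv.Perm GolayPt := CfsgLib.Golay.ptEquiv.permCongr posPermY

/-- the element `6` on points -/
def pE : Equiv.Perm GolayPt := CfsgLib.Golay.ptEquiv.permCongr posPermE

/-- the point images of the named generators -/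
def evPt : ℕ → Equiv.Perm GolayPt
  | 1 => pY
  | 6 => pE
  | _ => 1

/-- the `i`-th octad contains a point -/
def inOct (i : ℕ) (p : GolayPt) : Bool := (octs.getD i 0).testBit (CfsgLib.Golay.idx p).val

theorem pY_mem : pY ∈ M24 := by rw [CfsgLib.Golay.mem_M24_iff_isPres]; decide +kernel

theorem pE_mem : pE ∈ M24 := by rw [CfsgLib.Golay.mem_M24_iff_isPres]; decide +kernel

theorem duad_Y : (pY none = none ∧ pY (some 0) = some 0) ∨ (pY none = some 0 ∧ pY (some 0) = none) := by
  decide +kernel

theorem duad_E : (pE none = none ∧ pE (some 0) = some 0) ∨ (pE none = some 0 ∧ pE (some 0) = none) := by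
  decide +kernel

theorem swap_exists : pY none = some 0 ∨ pE none = some 0 := by decide +kernel

theorem oct_Y : ∀ i < 77, ∀ p : GolayPt, inOct (vecPermY.getD i 77) (pY p) = inOct i p := by
  decide +kernel

theorem oct_E : ∀ i < 77, ∀ p : GolayPt, inOct (vecPermE.getD i 77) (pE p) = inOct i p := by
  decide +kernel

theorem oct_sep : ∀ p : GolayPt, p ≠ none → p ≠ some 0 → ∀ q : GolayPt, q ≠ p →
    ∃ i < 77, inOct i p ≠ inOct i q := by decide +kernel

theorem swap_not_mem : Equiv.swap none (some 0) ∉ M24 := by
  rw [CfsgLib.Golay.mem_M24_iff_isPres]; decide +kernel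

/-- A permutation in `M24` keeping the two points as a set and every listed octad is trivial. -/
theorem eq_one_of_octs {σ : Equiv.Perm GolayPt} (hσ : σ ∈ M24)
    (hd : (σ none = none ∧ σ (some 0) = some 0) ∨ (σ none = some 0 ∧ σ (some 0) = none))
    (h : ∀ i < 77, ∀ p, inOct i (σ p) = inOct i p) : σ = 1 := by
  have hp : ∀ p : GolayPt, p ≠ none → p ≠ some 0 → σ p = p := by
    intro p h1 h2
    by_contra hne
    obtain ⟨i, hi, hne'⟩ := oct_sep p h1 h2 (σ p) hne
    exact hne' (h i hi p).symm
  rcases hd with ⟨h1, h2⟩ | ⟨h1, h2⟩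
  · refine Equiv.ext fun p => ?_
    by_cases e1 : p = none
    · subst e1; exact h1
    by_cases e2 : p = some 0
    · subst e2; exact h2
    exact hp p e1 e2
  · refine absurd hσ ?_
    have e : σ = Equiv.swap none (some 0) := Equiv.ext fun p => by
      by_cases e1 : p = none
      · subst e1; rw [h1, Equiv.swap_apply_left]
      by_cases e2 : p = some 0
      · subst e2; rw [h2, Equiv.swap_apply_right]
      rw [hp p e1 e2, Equiv.swap_apply_of_ne_of_ne e1 e2]
    rw [e]
    exact swap_not_mem

section Chain

variable {α : Type*} [Finite α] [DecidableEq α]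

/-- the conditions on a chain of levels -/
def chainCond : List (α × List (Equiv.Perm α)) → Bool
  | [] => true
  | l :: rest => (l.2.map fun σ => σ l.1).Nodup && (rest.all fun r => r.2.all fun σ => σ l.1 == l.1) &&
      chainCond rest

theorem le_card_of_chain : ∀ (L : List (α × List (Equiv.Perm α))) (H : Subgroup (Equiv.Perm α)),
    (∀ l ∈ L, ∀ σ ∈ l.2, σ ∈ H) → chainCond L = true → (L.map fun l => l.2.length).prod ≤ Nat.card H
  | [], H, _, _ => Nat.card_pos
  | l :: rest, H, hmem, hc => by
    simp only [chainCond, Bool.and_eq_true, decide_eq_true_eq, List.all_eq_true, beq_iff_eq] at hc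
    obtain ⟨⟨hnd, hfix⟩, hrest⟩ := hc
    let H' : Subgroup (Equiv.Perm α) := H ⊓ MulAction.stabilizer (Equiv.Perm α) l.1
    have ih := le_card_of_chain rest H' (fun r hr σ hσ =>
      ⟨hmem r (List.mem_cons_of_mem _ hr) σ hσ, MulAction.mem_stabilizer_iff.2 (hfix r hr σ hσ)⟩) hrest
    rw [List.map_cons, List.prod_cons]
    refine (Nat.mul_le_mul_left _ ih).trans ?_
    rw [← Nat.card_fin l.2.length, ← Nat.card_prod]
    refine Nat.card_le_card_of_injective
      (fun p : Fin l.2.length × H' =>
        (⟨l.2[p.1.1] * p.2.1, H.mul_mem (hmem l List.mem_cons_self _ (List.getElem_mem _)) p.2.2.1⟩ : H)) ?_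
    rintro ⟨i, h⟩ ⟨j, h'⟩ e
    have e1 : l.2[i.1] * h.1 = l.2[j.1] * h'.1 := congrArg Subtype.val e
    have e2 := congrArg (fun σ : Equiv.Perm α => σ l.1) e1
    simp only [Equiv.Perm.mul_apply] at e2
    rw [show h.1 l.1 = l.1 from MulAction.mem_stabilizer_iff.1 h.2.2,
      show h'.1 l.1 = l.1 from MulAction.mem_stabilizer_iff.1 h'.2.2] at e2
    have hij : i = j := by
      apply Fin.ext
      have := hnd.getElem_inj_iff (i := i.1) (j := j.1) (hi := by rw [List.length_map]; exact i.2)
        (hj := by rw [List.length_map]; exact j.2)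
      rw [List.getElem_map, List.getElem_map] at this
      exact this.1 e2
    subst hij
    exact Prod.ext rfl (Subtype.ext (mul_left_cancel e1))

end Chain

/-- the levels as permutations -/
def ptLevels : List (GolayPt × List (Equiv.Perm GolayPt)) :=
  levels.map fun l => (CfsgLib.Golay.pt (Fin.ofNat 24 l.1), l.2.map fun w => evW evPt w)

theorem ptLevels_ok : chainCond ptLevels = true := by decide +kernel

theorem ptLevels_prod : (ptLevels.map fun l => l.2.length).prod = 887040 := by decide +kernel

theorem levels_letters : (levels.all fun l => l.2.all fun w => w.all fun x => x == 1 || x == 6) = true := by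
  decide +kernel

theorem card_ge {H : Subgroup (Equiv.Perm GolayPt)} (hY : pY ∈ H) (hE : pE ∈ H) :
    887040 ≤ Nat.card H := by
  rw [← ptLevels_prod]
  refine le_card_of_chain _ H ?_ ptLevels_ok
  intro l hl σ hσ
  obtain ⟨l0, hl0, rfl⟩ := List.mem_map.1 hl
  obtain ⟨w, hw, rfl⟩ := List.mem_map.1 hσ
  have h := levels_letters
  simp only [List.all_eq_true, Bool.or_eq_true, beq_iff_eq] at h
  refine list_prod_mem ?_
  intro g hg
  obtain ⟨x, hx, rfl⟩ := List.mem_map.1 hg
  rcases h l0 hl0 w hw x hx with rfl | rfl
  · exact hY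
  · exact hE

end CfsgLib.J4Cent
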