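import Cfsg.Agent.Lib.Presented.J4Cent.Kernel
import Cfsg.Agent.Lib.Presented.J4Cent.Hexads

/-!
The homomorphism from the group of named centralising elements to the stabiliser of two points.
-/
set_option autoImplicit false
set_option maxRecDepth 20000

namespace CfsgLib.J4Cent

open CfsgLib.Presented CfsgLib.J4Rep CfsgLib.J4Mult Cfsg Cfsg.Spor

theorem vecs_lt : ∀ i < 77, vecs.getD i 0 < 2 ^ 112 := by decide +kernel

theorem vecs_inj : vecs.Nodup ∧ vecs.length = 77 := by decide +kernel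

/-- the `i`-th vector -/
def vec (i : Fin 77) : Vec112 := ⟨vecs.getD i.1 0, vecs_lt i.1 i.2⟩

theorem vec_injective : Function.Injective vec := by
  intro i j h
  have h' : vecs.getD i.1 0 = vecs.getD j.1 0 := congrArg Subtype.val h
  rw [List.getD_eq_getElem _ _ (by rw [vecs_inj.2]; exact i.2),
    List.getD_eq_getElem _ _ (by rw [vecs_inj.2]; exact j.2)] at h'
  exact Fin.ext ((vecs_inj.1.getElem_inj_iff).1 h')

/-- preserving the two points as a set -/
def DuadOK (σ : Equiv.Perm GolayPt) : Prop :=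
  (σ none = none ∧ σ (some 0) = some 0) ∨ (σ none = some 0 ∧ σ (some 0) = none)

theorem DuadOK.mul {σ τ : Equiv.Perm GolayPt} (h : DuadOK σ) (h' : DuadOK τ) : DuadOK (σ * τ) := by
  rcases h with ⟨a, b⟩ | ⟨a, b⟩ <;> rcases h' with ⟨c, d⟩ | ⟨c, d⟩ <;>
    simp [DuadOK, Equiv.Perm.mul_apply, a, b, c, d]

theorem DuadOK.inv {σ : Equiv.Perm GolayPt} (h : DuadOK σ) : DuadOK σ⁻¹ := by
  rcases h with ⟨a, b⟩ | ⟨a, b⟩
  · exact Or.inl ⟨Equiv.Perm.inv_eq_iff_eq.2 a.symm, Equiv.Perm.inv_eq_iff_eq.2 b.symm⟩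
  · exact Or.inr ⟨Equiv.Perm.inv_eq_iff_eq.2 b.symm, Equiv.Perm.inv_eq_iff_eq.2 a.symm⟩

/-- `σ` carries octad `i` to octad `j` -/
def OctMap (σ : Equiv.Perm GolayPt) (i j : Fin 77) : Prop := ∀ p, inOct j.1 (σ p) = inOct i.1 p

/-- compatible pairs -/
noncomputable def compat : Subgroup (J4 × Equiv.Perm GolayPt) where
  carrier := {x | x.2 ∈ M24 ∧ DuadOK x.2 ∧
    (∀ i, ∃ j, rep x.1 (vec i) = vec j ∧ OctMap x.2 i j) ∧
    (∀ j, ∃ i, rep x.1 (vec i) = vec j ∧ OctMap x.2 i j)}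
  one_mem' := ⟨M24.one_mem, Or.inl ⟨rfl, rfl⟩, fun i => ⟨i, by simp, fun _ => rfl⟩,
    fun i => ⟨i, by simp, fun _ => rfl⟩⟩
  mul_mem' := by
    rintro x y ⟨hx1, hx2, hx3, hx4⟩ ⟨hy1, hy2, hy3, hy4⟩
    refine ⟨M24.mul_mem hx1 hy1, hx2.mul hy2, fun i => ?_, fun k => ?_⟩
    · obtain ⟨j, hj, hj'⟩ := hy3 i
      obtain ⟨k, hk, hk'⟩ := hx3 j
      refine ⟨k, ?_, fun p => ?_⟩
      · rw [Prod.fst_mul, map_mul, Equiv.Perm.mul_apply, hj, hk]
      · exact (hk' (y.2 p)).trans (hj' p)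
    · obtain ⟨j, hj, hj'⟩ := hx4 k
      obtain ⟨i, hi, hi'⟩ := hy4 j
      refine ⟨i, ?_, fun p => ?_⟩
      · rw [Prod.fst_mul, map_mul, Equiv.Perm.mul_apply, hi, hj]
      · exact (hj' (y.2 p)).trans (hi' p)
  inv_mem' := by
    rintro x ⟨hx1, hx2, hx3, hx4⟩
    have key : ∀ i j, rep x.1 (vec i) = vec j → OctMap x.2 i j →
        rep x.1⁻¹ (vec j) = vec i ∧ OctMap x.2⁻¹ j i := by
      intro i j h h'
      refine ⟨?_, fun p => ?_⟩
      · rw [map_inv, Equiv.Perm.inv_eq_iff_eq]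
        exact h.symm
      · have := h' (x.2⁻¹ p)
        rw [Equiv.Perm.coe_inv, Equiv.apply_symm_apply] at this
        exact this.symm
    refine ⟨M24.inv_mem hx1, hx2.inv, fun i => ?_, fun j => ?_⟩
    · obtain ⟨j, h, h'⟩ := hx4 i
      exact ⟨j, key j i h h'⟩
    · obtain ⟨i, h, h'⟩ := hx3 j
      exact ⟨i, key j i h h'⟩

theorem compat_of_perm {g : ℕ} (hg : g < 34) {σ : Equiv.Perm GolayPt} (hσ : σ ∈ M24) (hd : DuadOK σ)
    (l : List ℕ) (hl : ∀ i : Fin 77, l.getD i.1 77 < 77)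
    (hv : ∀ i : Fin 77, actM g (vecs.getD i.1 0) = vecs.getD (l.getD i.1 77) 0)
    (ho : ∀ i < 77, ∀ p : GolayPt, inOct (l.getD i 77) (σ p) = inOct i p) :
    (el g, σ) ∈ compat := by
  let f : Fin 77 → Fin 77 := fun i => ⟨l.getD i.1 77, hl i⟩
  have hf : ∀ i, rep (el g) (vec i) = vec (f i) := fun i =>
    Subtype.ext ((rep_el_val hg (vec i)).trans (hv i))
  have hinj : Function.Injective f := fun i j h => by
    refine vec_injective ((rep (el g)).injective ?_)
    rw [hf, hf, h]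
  refine ⟨hσ, hd, fun i => ⟨f i, hf i, fun p => ho i.1 i.2 p⟩, fun j => ?_⟩
  obtain ⟨i, rfl⟩ := hinj.surjective_of_finite (Equiv.refl _) j
  exact ⟨i, hf i, fun p => ho i.1 i.2 p⟩

theorem compat_fix {g : ℕ} (hg : g ∈ nLetters) : (el g, (1 : Equiv.Perm GolayPt)) ∈ compat := by
  have hall : ∀ k ∈ nLetters, k < 34 ∧ k ∈ [4, 10, 11, 12, 13, 14, 15, 16, 17, 18, 19, 20, 21, 22] := by
    decide
  obtain ⟨hlt, hmem⟩ := hall g hg
  have hok := fix_ok
  simp only [fixOK, List.all_eq_true] at hok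
  have hv : ∀ i : Fin 77, rep (el g) (vec i) = vec i := fun i => Subtype.ext (by
    rw [rep_el_val hlt]
    refine Nat.eq_of_beq_eq_true (hok g hmem _ ?_)
    show vecs.getD i.1 0 ∈ vecs
    rw [List.getD_eq_getElem _ _ (by rw [vecs_inj.2]; exact i.2)]
    exact List.getElem_mem _)
  exact ⟨M24.one_mem, Or.inl ⟨rfl, rfl⟩, fun i => ⟨i, hv i, fun _ => rfl⟩,
    fun i => ⟨i, hv i, fun _ => rfl⟩⟩

/-- the graph of the homomorphism -/
noncomputable def graph : Subgroup (J4 × Equiv.Perm GolayPt) :=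
  Subgroup.closure ((fun k => (el k, evPt k)) '' {k | k ∈ kLetters})

theorem graph_le : graph ≤ compat := by
  rw [graph, Subgroup.closure_le]
  rintro _ ⟨k, hk, rfl⟩
  have hperm := perm_ok
  simp only [permOK, List.all_eq_true, List.mem_range, Bool.and_eq_true, Nat.blt_eq] at hperm
  rcases List.mem_cons.1 hk with rfl | hk
  · exact compat_of_perm (by norm_num) pY_mem duad_Y vecPermY (fun i => (hperm i.1 i.2).1.1.2)
      (fun i => Nat.eq_of_beq_eq_true (hperm i.1 i.2).1.1.1) oct_Y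
  rcases List.mem_cons.1 hk with rfl | hk
  · exact compat_of_perm (by norm_num) pE_mem duad_E vecPermE (fun i => (hperm i.1 i.2).2)
      (fun i => Nat.eq_of_beq_eq_true (hperm i.1 i.2).1.2) oct_E
  · have h1 : evPt k = 1 := by
      have hall : ∀ k ∈ nLetters, k ≠ 1 ∧ k ≠ 6 := by decide
      obtain ⟨a, b⟩ := hall k hk
      unfold evPt
      split <;> simp_all
    show (el k, evPt k) ∈ compat
    rw [h1]
    exact compat_fix hk

theorem graph_map_fst : graph.map (MonoidHom.fst J4 (Equiv.Perm GolayPt)) = genBy kLetters := by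
  rw [graph, MonoidHom.map_closure, genBy, Set.image_image]
  rfl

/-- the first projection of the graph -/
noncomputable def graphFst : graph →* J4 := (MonoidHom.fst J4 (Equiv.Perm GolayPt)).comp graph.subtype

theorem graphFst_injective : Function.Injective graphFst := by
  rw [injective_iff_map_eq_one]
  rintro ⟨⟨g, σ⟩, hx⟩ (h : g = 1)
  subst h
  obtain ⟨h1, h2, h3, -⟩ := graph_le hx
  refine Subtype.ext (Prod.ext rfl (eq_one_of_octs h1 h2 fun i hi p => ?_))
  obtain ⟨j, hj, hj'⟩ := h3 ⟨i, hi⟩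
  rw [map_one, Equiv.Perm.one_apply] at hj
  obtain rfl := vec_injective hj
  exact hj' p

theorem graphFst_range : graphFst.range = genBy kLetters := by
  rw [graphFst, MonoidHom.range_comp, Subgroup.range_subtype, graph_map_fst]

/-- the homomorphism to permutations of the points -/
noncomputable def psi : genBy kLetters →* Equiv.Perm GolayPt :=
  ((MonoidHom.snd J4 (Equiv.Perm GolayPt)).comp graph.subtype).comp
    ((MulEquiv.subgroupCongr graphFst_range.symm).trans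
      (MonoidHom.ofInjective graphFst_injective).symm).toMonoidHom

theorem psi_spec {g : J4} {σ : Equiv.Perm GolayPt} (h : (g, σ) ∈ graph) (hg : g ∈ genBy kLetters) :
    psi ⟨g, hg⟩ = σ := by
  have e : (MulEquiv.subgroupCongr graphFst_range.symm).trans
      (MonoidHom.ofInjective graphFst_injective).symm ⟨g, hg⟩ = ⟨(g, σ), h⟩ := by
    rw [MulEquiv.trans_apply, MulEquiv.symm_apply_eq]
    exact Subtype.ext rfl
  show ((MulEquiv.subgroupCongr graphFst_range.symm).trans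
      (MonoidHom.ofInjective graphFst_injective).symm ⟨g, hg⟩).1.2 = σ
  rw [e]

theorem psi_el {k : ℕ} (hk : k ∈ kLetters) : psi ⟨el k, el_mem_genBy hk⟩ = evPt k :=
  psi_spec (Subgroup.subset_closure ⟨k, hk, rfl⟩) _

theorem psi_duad (x : genBy kLetters) : psi x ∈ M24 ∧ DuadOK (psi x) := by
  obtain ⟨p, hp, hx⟩ := (graph_map_fst.symm ▸ x.2 : x.1 ∈ graph.map (MonoidHom.fst J4 _))
  obtain ⟨g, σ⟩ := p
  subst hx
  rw [psi_spec hp x.2]
  exact ⟨(graph_le hp).1, (graph_le hp).2.1⟩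

theorem psi_range_ge : 887040 ≤ Nat.card psi.range :=
  card_ge ⟨_, psi_el (k := 1) (by simp [kLetters])⟩ ⟨_, psi_el (k := 6) (by simp [kLetters])⟩

theorem nSub_le_ker :
    (genBy nLetters).subgroupOf (genBy kLetters) ≤ psi.ker := by
  intro x hx
  have hle : genBy nLetters ≤ (psi.ker).map (genBy kLetters).subtype := by
    rw [genBy, Subgroup.closure_le]
    rintro _ ⟨k, hk, rfl⟩
    have hk' : k ∈ kLetters := List.mem_cons_of_mem _ (List.mem_cons_of_mem _ hk)
    refine ⟨⟨el k, el_mem_genBy hk'⟩, ?_, rfl⟩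
    rw [SetLike.mem_coe, MonoidHom.mem_ker, psi_el hk']
    have hall : ∀ k ∈ nLetters, k ≠ 1 ∧ k ≠ 6 := by decide
    obtain ⟨a, b⟩ := hall k hk
    unfold evPt
    split <;> simp_all
  obtain ⟨y, hy, hxy⟩ := hle hx
  rwa [Subtype.ext hxy] at hy

end CfsgLib.J4Cent
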