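import Cfsg.Agent.Lib.Presented.J4Cent.Defs
import Cfsg.Agent.Lib.J4Rep.Rep

/-!
Linear maps on binary vectors are determined by the basis vectors.
-/
set_option autoImplicit false

namespace CfsgLib.J4Cent

open CfsgLib.Presented CfsgLib.J4Rep

theorem actM_xor (k v w : ℕ) : actM k (v ^^^ w) = actM k v ^^^ actM k w := applyN_xor _ _ _ _

theorem runM_cons (x : ℕ) (w : List ℕ) (v : ℕ) : runM (x :: w) v = runM w (actM x v) := by
  rw [runM, Vec.force_eq]

theorem runM_append : ∀ (u w : List ℕ) (v : ℕ), runM (u ++ w) v = runM w (runM u v)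
  | [], _, _ => rfl
  | x :: u, w, v => by rw [List.cons_append, runM_cons, runM_cons, runM_append u w]

theorem runM_xor : ∀ (w : List ℕ) (u v : ℕ), runM w (u ^^^ v) = runM w u ^^^ runM w v
  | [], _, _ => rfl
  | x :: w, u, v => by rw [runM_cons, runM_cons, runM_cons, actM_xor, runM_xor w]

theorem basis_ext {f g : ℕ → ℕ} (hf : ∀ u v, f (u ^^^ v) = f u ^^^ f v)
    (hg : ∀ u v, g (u ^^^ v) = g u ^^^ g v) {m : ℕ} (h : ∀ i < m, f (2 ^ i) = g (2 ^ i)) :
    ∀ n ≤ m, ∀ v < 2 ^ n, f v = g v
  | 0, _, v, hv => by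
    rw [pow_zero, Nat.lt_one_iff] at hv
    subst hv
    have h1 := hf 0 0
    have h2 := hg 0 0
    simp only [Nat.xor_self] at h1 h2
    rw [h1, h2]
  | n + 1, hn, v, hv => by
    by_cases hb : v < 2 ^ n
    · exact basis_ext hf hg h n (by omega) v hb
    · have hlt : v - 2 ^ n < 2 ^ n := by rw [pow_succ] at hv; omega
      have e : v = 2 ^ n ^^^ (v - 2 ^ n) := by
        have h1 : 2 ^ n + (v - 2 ^ n) = v := by omega
        have h2 : 2 ^ n + (v - 2 ^ n) = 2 ^ n ||| (v - 2 ^ n) := by
          have := Nat.two_pow_add_eq_or_of_lt hlt 1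
          simpa using this
        apply Nat.eq_of_testBit_eq
        intro i
        rw [Nat.testBit_xor]
        have h3 : v.testBit i = (2 ^ n ||| (v - 2 ^ n)).testBit i := by rw [← h2, h1]
        rw [h3, Nat.testBit_or, Nat.testBit_two_pow]
        by_cases hi : n = i
        · subst hi
          simp [Nat.testBit_lt_two_pow hlt]
        · simp [hi]
      rw [e, hf, hg, h n (by omega), basis_ext hf hg h n (by omega) _ hlt]

end CfsgLib.J4Cent
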