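import Mathlib

/-!
Upper bound for the order of a centraliser from its invariant sets of cosets, and a double-counting bound
for such a set given orbit representatives.
-/
set_option autoImplicit false

namespace CfsgLib.J4Cent

variable {G : Type*} [Group G] [Finite G]

open scoped Classical

/-- conjugates by elements of a subgroup bound the centraliser inside that subgroup -/
theorem card_inf_centralizer_mul_le (H : Subgroup G) (z : G) (S : Finset G)
    (hS : ∀ u ∈ S, ∃ m ∈ H, u = m * z * m⁻¹) :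
    S.card * Nat.card (Subgroup.centralizer ({z} : Set G) ⊓ H : Subgroup G) ≤ Nat.card H := by
  choose! m hm hu using hS
  rw [show S.card = Nat.card S from (Nat.card_eq_finsetCard S).symm, ← Nat.card_prod]
  refine Nat.card_le_card_of_injective (fun p => (⟨m p.1 * p.2.1, H.mul_mem (hm _ p.1.2) p.2.2.2⟩ : H)) ?_
  rintro ⟨⟨u, hu'⟩, c⟩ ⟨⟨v, hv'⟩, d⟩ e
  have e1 : m u * c.1 = m v * d.1 := congrArg Subtype.val e
  have hconj : ∀ (w : G) (x : (Subgroup.centralizer ({z} : Set G) ⊓ H : Subgroup G)), w ∈ S →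
      m w * x.1 * z * (m w * x.1)⁻¹ = w := fun w x hw => by
    rw [mul_assoc (m w), Subgroup.mem_centralizer_singleton_iff.1 x.2.1]
    conv_rhs => rw [hu w hw]
    group
  have huv : u = v := by rw [← hconj u c hu', ← hconj v d hv', e1]
  subst huv
  exact Prod.ext rfl (Subtype.ext (mul_left_cancel e1))

/-- orbit bound for a centraliser acting on cosets -/
theorem card_centralizer_le (H : Subgroup G) (z : G) (T : Set (G ⧸ H))
    (hbase : (QuotientGroup.mk 1 : G ⧸ H) ∈ T)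
    (hinv : ∀ c ∈ Subgroup.centralizer ({z} : Set G), ∀ p ∈ T, c • p ∈ T) :
    Nat.card (Subgroup.centralizer ({z} : Set G)) ≤
      T.ncard * Nat.card (Subgroup.centralizer ({z} : Set G) ⊓ H : Subgroup G) := by
  set C := Subgroup.centralizer ({z} : Set G)
  let f : C → T := fun c => ⟨c.1 • QuotientGroup.mk 1, hinv c c.2 _ hbase⟩
  let rep : T → C := Function.invFun f
  have hrep : ∀ c, f (rep (f c)) = f c := fun c => Function.invFun_eq ⟨c, rfl⟩
  rw [← Nat.card_coe_set_eq T, ← Nat.card_prod]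
  have hmem : ∀ c : C, (rep (f c)).1⁻¹ * c.1 ∈ C ⊓ H := fun c => by
    refine ⟨C.mul_mem (C.inv_mem (rep (f c)).2) c.2, ?_⟩
    have h : ((rep (f c)).1 • QuotientGroup.mk 1 : G ⧸ H) = c.1 • QuotientGroup.mk 1 :=
      congrArg Subtype.val (hrep c)
    rw [MulAction.Quotient.smul_mk, MulAction.Quotient.smul_mk, smul_eq_mul, smul_eq_mul, mul_one,
      mul_one, QuotientGroup.eq] at h
    exact h
  refine Nat.card_le_card_of_injective (fun c => (f c, (⟨_, hmem c⟩ : (C ⊓ H : Subgroup G)))) ?_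
  intro c d e
  have e1 : f c = f d := congrArg Prod.fst e
  have e2 : (rep (f c)).1⁻¹ * c.1 = (rep (f d)).1⁻¹ * d.1 := congrArg (fun x => (x.2 : G)) e
  rw [e1] at e2
  exact Subtype.ext (mul_left_cancel e2)

/-- double counting bound for a set of cosets from orbit representatives -/
theorem ncard_le_sum (H M : Subgroup G) (z : G) (T : Set (G ⧸ H)) {κ : Type*} [Fintype κ]
    (r : κ → G ⧸ H) (K : κ → Subgroup G) (hKM : ∀ k, K k ≤ M) (hKr : ∀ k, ∀ g ∈ K k, g • r k = r k)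
    (hcov : ∀ p : G ⧸ H, ∃ k, ∃ m ∈ M, p = m • r k) (good : κ → Finset G)
    (hgood : ∀ k, ∀ m ∈ M, m • r k ∈ T → m⁻¹ * z * m ∈ good k) (f : κ → ℕ)
    (hf : ∀ k, (good k).card * Nat.card (Subgroup.centralizer ({z} : Set G) ⊓ M : Subgroup G) ≤
      f k * Nat.card (K k)) :
    T.ncard ≤ ∑ k, f k := by
  set C := Subgroup.centralizer ({z} : Set G)
  let Tk : κ → Set (G ⧸ H) := fun k => {p | p ∈ T ∧ ∃ m ∈ M, p = m • r k}
  have hsub : T ⊆ ⋃ k, Tk k := fun p hp => by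
    obtain ⟨k, hk⟩ := hcov p
    exact Set.mem_iUnion.2 ⟨k, hp, hk⟩
  refine (Set.ncard_le_ncard hsub (Set.toFinite _)).trans ((Set.ncard_iUnion_le_of_fintype Tk).trans ?_)
  refine Finset.sum_le_sum fun k _ => ?_
  refine Nat.le_of_mul_le_mul_right ?_ (Nat.card_pos (α := K k))
  refine le_trans ?_ (hf k)
  rw [← Nat.card_coe_set_eq (Tk k), ← Nat.card_prod, ← Nat.card_eq_finsetCard, ← Nat.card_prod]
  let m : Tk k → G := fun p => p.2.2.choose
  have hm : ∀ p : Tk k, m p ∈ M ∧ p.1 = m p • r k := fun p => p.2.2.choose_spec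
  have hmk : ∀ (p : Tk k) (g : K k), m p * g.1 ∈ M ∧ (m p * g.1) • r k = p.1 := fun p g =>
    ⟨M.mul_mem (hm p).1 (hKM k g.2), by rw [mul_smul, hKr k g.1 g.2]; exact (hm p).2.symm⟩
  have hu : ∀ (p : Tk k) (g : K k), (m p * g.1)⁻¹ * z * (m p * g.1) ∈ good k := fun p g =>
    hgood k _ (hmk p g).1 ((hmk p g).2.symm ▸ p.2.1)
  let m0 : G → G := fun u => if h : ∃ x ∈ M, x⁻¹ * z * x = u then h.choose else 1
  have hm0 : ∀ x ∈ M, m0 (x⁻¹ * z * x) ∈ M ∧
      (m0 (x⁻¹ * z * x))⁻¹ * z * m0 (x⁻¹ * z * x) = x⁻¹ * z * x := fun x hx => by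
    have h : ∃ y ∈ M, y⁻¹ * z * y = x⁻¹ * z * x := ⟨x, hx, rfl⟩
    simp only [m0, dif_pos h]
    exact h.choose_spec
  have hc : ∀ x ∈ M, x * (m0 (x⁻¹ * z * x))⁻¹ ∈ C ⊓ M := fun x hx => by
    obtain ⟨h1, h2⟩ := hm0 x hx
    refine ⟨?_, M.mul_mem hx (M.inv_mem h1)⟩
    show x * (m0 (x⁻¹ * z * x))⁻¹ ∈ Subgroup.centralizer ({z} : Set G)
    rw [Subgroup.mem_centralizer_singleton_iff]
    generalize m0 (x⁻¹ * z * x) = y at h2 ⊢
    calc x * y⁻¹ * z = x * (y⁻¹ * z * y) * y⁻¹ := by group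
      _ = z * (x * y⁻¹) := by rw [h2]; group
  refine Nat.card_le_card_of_injective
    (fun p => ((⟨_, hu p.1 p.2⟩ : good k), (⟨_, hc _ (hmk p.1 p.2).1⟩ : (C ⊓ M : Subgroup G)))) ?_
  rintro ⟨p, g⟩ ⟨q, h⟩ e
  have e1 : (m p * g.1)⁻¹ * z * (m p * g.1) = (m q * h.1)⁻¹ * z * (m q * h.1) :=
    congrArg (fun x => (x.1 : G)) e
  have e2 : m p * g.1 * (m0 ((m p * g.1)⁻¹ * z * (m p * g.1)))⁻¹ =
      m q * h.1 * (m0 ((m q * h.1)⁻¹ * z * (m q * h.1)))⁻¹ := congrArg (fun x => (x.2 : G)) e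
  rw [e1] at e2
  have e3 := mul_right_cancel e2
  have hpq : p = q := Subtype.ext (by rw [← (hmk p g).2, ← (hmk q h).2, e3])
  subst hpq
  exact Prod.ext rfl (Subtype.ext (mul_left_cancel e3))

end CfsgLib.J4Cent
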