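import Cfsg.Agent.Lib.Presented.J4Cent.Defs
import Cfsg.Agent.Lib.Presented.J4Cent.CoordData

/-! Kernel checks on the coordinates of the elementary abelian subgroup of order 2048. -/
set_option autoImplicit false
set_option maxRecDepth 20000
-- one kernel check at a time: memory
set_option Elab.async false

namespace CfsgLib.J4Cent

/-- apply the element with coordinates `b` (first `n` basis elements) -/
noncomputable def imgA (b : ℕ) : ℕ → ℕ → ℕ
  | 0, v => v
  | n + 1, v => CfsgLib.Presented.Vec.force (cond (b.testBit n) (actM (23 + n) v) v) fun u => imgA b n u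

/-- the linear map of a row list -/
def combo (rows : List ℕ) (b : ℕ) : ℕ → ℕ
  | 0 => 0
  | n + 1 => cond (b.testBit n) (combo rows b n ^^^ rows.getD n 0) (combo rows b n)

/-- the row list of a conjugating element -/
def rowsOf (g : ℕ) : List ℕ := if g = 0 then rowsX else rowsY

/-- every nonzero coordinate vector moves the test vector -/
noncomputable def injOK (lo n : ℕ) : Bool :=
  (List.range' lo n).all fun b => !(Nat.beq (imgA b 11 (testVecs.getD 0 0)) (testVecs.getD 0 0))

theorem injOK₁ : injOK 1 1023 = true := by decide +kernel

theorem injOK₂ : injOK 1024 1024 = true := by decide +kernel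

/-- the orbit list is a tree from the coordinates of element `4` -/
def orbOK : Bool :=
  orbBits.getD 0 0 == zBits && (List.range 1770).all fun i =>
    Nat.blt (orbTree.getD i (0, 0)).1 (i + 1) && Nat.blt (orbTree.getD i (0, 0)).2 2 &&
      combo (rowsOf (orbTree.getD i (0, 0)).2) (orbBits.getD (orbTree.getD i (0, 0)).1 0) 11 ==
        orbBits.getD (i + 1) 0

theorem orb_ok : orbOK = true := by decide +kernel

/-- the set of listed coordinates as a mask -/
def orbMask : ℕ := orbBits.foldl (fun m b => m ||| 2 ^ b) 0

theorem orbMask_count : ((List.range 2048).filter fun b => orbMask.testBit b).length = 1771 := by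
  decide +kernel

theorem orbBits_lt : (orbBits.all fun b => Nat.blt b 2048) = true := by decide +kernel

end CfsgLib.J4Cent
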