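import Cfsg.Agent.Lib.Presented.J4Cent.Kernel
import Cfsg.Agent.Lib.Presented.J4Cent.CheckCoords

/-!
The elementary abelian subgroup of order 2048 containing element `4`, in coordinates, and a conjugacy orbit of
1771 of its elements.
-/
set_option autoImplicit false
set_option maxRecDepth 20000

namespace CfsgLib.J4Cent

open CfsgLib.Presented CfsgLib.J4Rep CfsgLib.J4Mult Cfsg.Spor

/-- the element with coordinates `b`, using the first `n` basis elements -/
noncomputable def aPart (b : ℕ) : ℕ → J4
  | 0 => 1
  | n + 1 => aPart b n * cond (b.testBit n) (el (23 + n)) 1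

/-- the element with coordinates `b` -/
noncomputable def aElt (b : ℕ) : J4 := aPart b 11

/-- the list of basis letters of coordinates -/
def bitsList (b : ℕ) : ℕ → List ℕ
  | 0 => []
  | n + 1 => bitsList b n ++ cond (b.testBit n) [23 + n] []

theorem evW_bitsList (b : ℕ) : ∀ n, evW el (bitsList b n) = aPart b n
  | 0 => rfl
  | n + 1 => by
    rw [bitsList, evW_append, evW_bitsList b n, aPart]
    cases b.testBit n <;> simp

theorem basis_sq (hs : IsSimpleGroup J4) {n : ℕ} (hn : n < 11) : el (23 + n) * el (23 + n) = 1 := by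
  have hall : ∀ i < 11, ([23 + i, 23 + i], ([] : List ℕ)) ∈ eqs := by decide +kernel
  simpa using el_eq hs (hall n hn)

theorem basis_comm (hs : IsSimpleGroup J4) {m n : ℕ} (hm : m < 11) (hn : n < 11) :
    el (23 + m) * el (23 + n) = el (23 + n) * el (23 + m) := by
  have hall' : ∀ i j : Fin 11, i < j → ([23 + i.1, 23 + j.1], [23 + j.1, 23 + i.1]) ∈ eqs := by decide +kernel
  have hall : ∀ i < 11, ∀ j < 11, i < j → ([23 + i, 23 + j], [23 + j, 23 + i]) ∈ eqs :=
    fun i hi j hj h => hall' ⟨i, hi⟩ ⟨j, hj⟩ h
  rcases lt_trichotomy m n with h | rfl | h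
  · simpa using el_eq hs (hall m hm n hn h)
  · rfl
  · simpa using (el_eq hs (hall n hn m hm h)).symm

theorem aPart_comm (hs : IsSimpleGroup J4) (b : ℕ) {m : ℕ} (hm : m < 11) :
    ∀ n ≤ 11, Commute (el (23 + m)) (aPart b n)
  | 0, _ => Commute.one_right _
  | n + 1, hn => by
    refine (aPart_comm hs b hm n (by omega)).mul_right ?_
    cases b.testBit n
    · exact Commute.one_right _
    · exact basis_comm hs hm (by omega)

theorem aPart_xor (hs : IsSimpleGroup J4) (a b : ℕ) :
    ∀ n ≤ 11, aPart (a ^^^ b) n = aPart a n * aPart b n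
  | 0, _ => (mul_one 1).symm
  | n + 1, hn => by
    have hn' : n < 11 := by omega
    simp only [aPart]
    rw [aPart_xor hs a b n (by omega), Nat.testBit_xor]
    generalize a.testBit n = x
    generalize b.testBit n = y
    have hc : aPart b n * el (23 + n) = el (23 + n) * aPart b n :=
      ((aPart_comm hs b hn' n (by omega)).eq).symm
    cases x <;> cases y <;> simp only [Bool.bne_false, Bool.bne_true, Bool.not_false, Bool.not_true,
      cond, mul_one]
    · simp only [mul_assoc]
    · rw [mul_assoc, hc]; simp only [mul_assoc]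
    · rw [mul_assoc (aPart a n) (el (23 + n)), ← mul_assoc (el (23 + n)) (aPart b n), ← hc,
        mul_assoc (aPart b n), basis_sq hs hn', mul_one]

theorem aElt_xor (hs : IsSimpleGroup J4) (a b : ℕ) : aElt (a ^^^ b) = aElt a * aElt b :=
  aPart_xor hs a b 11 le_rfl

theorem aPart_zero : ∀ n, aPart 0 n = 1
  | 0 => rfl
  | n + 1 => by rw [aPart, aPart_zero n, Nat.zero_testBit]; exact mul_one _

theorem rows_spec (hs : IsSimpleGroup J4) {g n : ℕ} (hg : g < 2) (hn : n < 11) :
    el g * el (23 + n) * (el g)⁻¹ = aElt ((rowsOf g).getD n 0) := by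
  have hall : ∀ g < 2, ∀ i < 11, ([g, 23 + i], bitsList ((rowsOf g).getD i 0) 11 ++ [g]) ∈ eqs := by
    decide +kernel
  have e := el_eq hs (hall g hg n hn)
  rw [evW_append, evW_bitsList] at e
  simp only [evW_cons, evW_nil, mul_one] at e
  rw [e, mul_inv_cancel_right]
  rfl

theorem conj_aPart (hs : IsSimpleGroup J4) {g : ℕ} (hg : g < 2) (b : ℕ) :
    ∀ n ≤ 11, el g * aPart b n * (el g)⁻¹ = aElt (combo (rowsOf g) b n)
  | 0, _ => by
    simp only [aPart, combo, mul_one, mul_inv_cancel]
    exact (aPart_zero 11).symm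
  | n + 1, hn => by
    have ih := conj_aPart hs hg b n (by omega)
    simp only [aPart, combo]
    cases b.testBit n
    · simpa using ih
    · simp only [cond]
      rw [aElt_xor hs, ← ih, ← rows_spec hs hg (n := n) (by omega)]
      simp only [mul_assoc, inv_mul_cancel_left]

theorem conj_aElt (hs : IsSimpleGroup J4) {g : ℕ} (hg : g < 2) (b : ℕ) :
    el g * aElt b * (el g)⁻¹ = aElt (combo (rowsOf g) b 11) :=
  conj_aPart hs hg b 11 le_rfl

theorem rep_aPart (b : ℕ) : ∀ n ≤ 11, ∀ v : Vec112, (rep (aPart b n) v).1 = imgA b n v.1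
  | 0, _, v => by rw [aPart, map_one]; rfl
  | n + 1, hn, v => by
    rw [aPart, map_mul, Equiv.Perm.mul_apply, rep_aPart b n (by omega), imgA, Vec.force_eq]
    congr 1
    cases b.testBit n
    · simp
    · exact rep_el_val (by omega) v

theorem aElt_ne_one {b : ℕ} (h0 : b ≠ 0) (hb : b < 2048) : aElt b ≠ 1 := by
  intro e
  have hv : testVecs.getD 0 0 < 2 ^ 112 := by decide +kernel
  have h := rep_aPart b 11 le_rfl ⟨_, hv⟩
  change (rep (aElt b) _).1 = _ at h
  rw [e, map_one] at h
  have hk : (!(Nat.beq (imgA b 11 (testVecs.getD 0 0)) (testVecs.getD 0 0))) = true := by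
    by_cases hlt : b < 1024
    · exact List.all_eq_true.1 injOK₁ b (List.mem_range'_1.2 ⟨by omega, by omega⟩)
    · exact List.all_eq_true.1 injOK₂ b (List.mem_range'_1.2 ⟨by omega, by omega⟩)
  rw [show imgA b 11 (testVecs.getD 0 0) = testVecs.getD 0 0 from h.symm, Nat.beq_refl] at hk
  exact Bool.false_ne_true hk

theorem aElt_inj (hs : IsSimpleGroup J4) {a b : ℕ} (ha : a < 2048) (hb : b < 2048)
    (h : aElt a = aElt b) : a = b := by
  by_contra hne
  refine aElt_ne_one (b := a ^^^ b) (fun e => hne (Nat.xor_eq_zero_iff.1 e))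
    (Nat.xor_lt_two_pow (n := 11) ha hb) ?_
  rw [aElt_xor hs, h, ← aElt_xor hs, Nat.xor_self]
  exact aPart_zero 11

theorem aElt_zBits (hs : IsSimpleGroup J4) : aElt zBits = el 4 := by
  have h : ([4], bitsList zBits 11) ∈ eqs := by decide +kernel
  have e := el_eq hs h
  rw [evW_bitsList] at e
  simpa [aElt] using e.symm

/-- the subgroup generated by the first two named elements -/
noncomputable def mSub : Subgroup J4 := genBy [0, 1]

theorem orbit_conj (hs : IsSimpleGroup J4) : ∀ i < 1771,
    ∃ m ∈ mSub, aElt (orbBits.getD i 0) = m * el 4 * m⁻¹ := by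
  intro i
  induction i using Nat.strong_induction_on with
  | _ i ih =>
    intro hi
    have hok := orb_ok
    simp only [orbOK, Bool.and_eq_true, beq_iff_eq, List.all_eq_true, List.mem_range, Nat.blt_eq] at hok
    obtain ⟨h0, hstep⟩ := hok
    cases i with
    | zero => exact ⟨1, mSub.one_mem, by rw [h0, aElt_zBits hs]; simp⟩
    | succ k =>
      obtain ⟨⟨hlt, hg⟩, he⟩ := hstep k (by omega)
      obtain ⟨m, hm, hme⟩ := ih _ hlt (by omega)
      refine ⟨el (orbTree.getD k (0, 0)).2 * m, mSub.mul_mem (el_mem_genBy ?_) hm, ?_⟩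
      · generalize (orbTree.getD k (0, 0)).2 = g at hg
        obtain rfl | rfl : g = 0 ∨ g = 1 := by omega
        all_goals simp
      · rw [← he, ← conj_aElt hs hg, hme]
        group

open scoped Classical in
/-- the orbit has at least 1771 elements -/
theorem card_orbit_ge (hs : IsSimpleGroup J4) :
    1771 ≤ (((List.range 2048).filter fun b => orbMask.testBit b).map aElt).toFinset.card := by
  rw [List.toFinset_card_of_nodup, List.length_map, orbMask_count]
  refine List.Nodup.map_on ?_ (List.nodup_range.filter _)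
  intro a ha b hb h
  simp only [List.mem_filter, List.mem_range] at ha hb
  exact aElt_inj hs ha.1 hb.1 h

theorem mem_orbBits {b : ℕ} (h : orbMask.testBit b = true) : b ∈ orbBits := by
  have key : ∀ (l : List ℕ) (m : ℕ), (l.foldl (fun m b => m ||| 2 ^ b) m).testBit b = true →
      m.testBit b = true ∨ b ∈ l := by
    intro l
    induction l with
    | nil => intro m hm; exact Or.inl hm
    | cons a l ih =>
      intro m hm
      rcases ih _ hm with h1 | h1
      · rw [Nat.testBit_or, Bool.or_eq_true] at h1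
        rcases h1 with h2 | h2
        · exact Or.inl h2
        · rw [Nat.testBit_two_pow, decide_eq_true_eq] at h2
          exact Or.inr (h2 ▸ List.mem_cons_self)
      · exact Or.inr (List.mem_cons_of_mem _ h1)
  rcases key _ _ h with h1 | h1
  · simp at h1
  · exact h1

open scoped Classical in
theorem orbit_mem (hs : IsSimpleGroup J4) {u : J4}
    (hu : u ∈ (((List.range 2048).filter fun b => orbMask.testBit b).map aElt).toFinset) :
    ∃ m ∈ mSub, u = m * el 4 * m⁻¹ := by
  simp only [List.mem_toFinset, List.mem_map, List.mem_filter] at hu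
  obtain ⟨b, ⟨-, hb⟩, rfl⟩ := hu
  obtain ⟨i, hi, rfl⟩ := List.getElem_of_mem (mem_orbBits hb)
  have hlen : orbBits.length = 1771 := by decide +kernel
  rw [← List.getD_eq_getElem orbBits 0 hi]
  exact orbit_conj hs i (hlen ▸ hi)

end CfsgLib.J4Cent
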