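import Cfsg.Agent.Lib.Presented.J4Cent.Structure
import Cfsg.Agent.Lib.Presented.J4Cent.Coords
import Cfsg.Agent.Lib.Presented.J4Cent.Bound
import Cfsg.Agent.Lib.J4M24.Main

/-!
The order bound for the centraliser of element `4`, given the index of the subgroup of elements `0`, `1`, `4`
and a bound for the cosets whose conjugated abelian subgroup commutes with element `4`.
-/
set_option autoImplicit false
set_option maxRecDepth 20000

namespace CfsgLib.J4Cent

open CfsgLib.Presented CfsgLib.Presented.J4M24 CfsgLib.J4Mult Cfsg.Spor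
open scoped Classical

/-- the subgroup of index 173067389 -/
noncomputable def hSub : Subgroup J4 := genBy [0, 1, 4]

/-- the elementary abelian subgroup of order 2048 -/
noncomputable def aSub : Subgroup J4 := genBy ((List.range 11).map fun i => 23 + i)

theorem aPart_mem (b : ℕ) : ∀ n ≤ 11, aPart b n ∈ aSub
  | 0, _ => one_mem _
  | n + 1, hn => by
    refine mul_mem (aPart_mem b n (by omega)) ?_
    cases b.testBit n
    · exact one_mem _
    · exact el_mem_genBy (List.mem_map.2 ⟨n, List.mem_range.2 (by omega), rfl⟩)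

theorem aSub_comm (hs : IsSimpleGroup J4) {a : J4} (ha : a ∈ aSub) (b : ℕ) : Commute a (aElt b) := by
  have hle : aSub ≤ Subgroup.centralizer {aElt b} := by
    rw [aSub, genBy, Subgroup.closure_le]
    rintro _ ⟨k, hk, rfl⟩
    obtain ⟨i, hi, rfl⟩ := List.mem_map.1 hk
    rw [SetLike.mem_coe, Subgroup.mem_centralizer_singleton_iff]
    exact (aPart_comm hs b (List.mem_range.1 hi) 11 le_rfl).eq
  exact Subgroup.mem_centralizer_singleton_iff.1 (hle ha)

variable [Finite J4]

theorem el_four_mem (hs : IsSimpleGroup J4) : el 4 ∈ aSub :=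
  aElt_zBits hs ▸ aPart_mem zBits 11 le_rfl

theorem hSub_le_normalizer (hs : IsSimpleGroup J4) : hSub ≤ Subgroup.normalizer (aSub : Set J4) := by
  rw [hSub, genBy, Subgroup.closure_le]
  rintro _ ⟨k, hk, rfl⟩
  simp only [List.mem_cons, List.not_mem_nil, or_false, Set.mem_setOf_eq] at hk
  have hconj : ∀ g < 2, el g ∈ Subgroup.normalizer (aSub : Set J4) := by
    intro g hg
    have hle : aSub.map (MulAut.conj (el g)).toMonoidHom ≤ aSub := by
      conv_lhs => rw [aSub, genBy, MonoidHom.map_closure]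
      rw [Subgroup.closure_le]
      rintro _ ⟨_, ⟨q, hq, rfl⟩, rfl⟩
      obtain ⟨i, hi, rfl⟩ := List.mem_map.1 hq
      simp only [MulEquiv.coe_toMonoidHom, MulAut.conj_apply]
      rw [rows_spec hs hg (List.mem_range.1 hi)]
      exact aPart_mem _ 11 le_rfl
    rw [Subgroup.mem_normalizer_iff_map_conj_eq]
    exact Subgroup.eq_of_le_of_card_ge hle
      (le_of_eq (Subgroup.card_map_of_injective (MulAut.conj (el g)).injective).symm)
  rcases hk with rfl | rfl | rfl
  · exact hconj 0 (by norm_num)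
  · exact hconj 1 (by norm_num)
  · exact Subgroup.le_normalizer (el_four_mem hs)

/-- cosets whose conjugated abelian subgroup commutes with element `4` -/
def tSet : Set (J4 ⧸ hSub) :=
  {p | ∀ g : J4, QuotientGroup.mk g = p → ∀ a ∈ aSub, Commute (el 4) (g * a * g⁻¹)}

theorem tSet_base (hs : IsSimpleGroup J4) : (QuotientGroup.mk 1 : J4 ⧸ hSub) ∈ tSet := by
  intro g hg a ha
  rw [QuotientGroup.eq, mul_one] at hg
  have hga := (Subgroup.mem_normalizer_iff.1 (hSub_le_normalizer hs (inv_mem_iff.1 hg)) a).1 ha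
  exact (aElt_zBits hs ▸ (aSub_comm hs hga zBits).symm)

theorem tSet_inv {c : J4} (hc : c ∈ Subgroup.centralizer ({el 4} : Set J4)) {p : J4 ⧸ hSub}
    (hp : p ∈ tSet) : c • p ∈ tSet := by
  intro g hg a ha
  have h : QuotientGroup.mk (c⁻¹ * g) = p := by
    rw [← smul_eq_mul, ← MulAction.Quotient.smul_mk, hg, inv_smul_smul]
  have e := (hp _ h a ha).eq
  have hz := Subgroup.mem_centralizer_singleton_iff.1 hc
  calc el 4 * (g * a * g⁻¹) = c * (el 4 * (c⁻¹ * g * a * (c⁻¹ * g)⁻¹)) * c⁻¹ := by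
        rw [← mul_assoc c (el 4), hz]; group
    _ = c * (c⁻¹ * g * a * (c⁻¹ * g)⁻¹) * (el 4 * c⁻¹) := by rw [e]; simp only [mul_assoc]
    _ = c * (c⁻¹ * g * a * (c⁻¹ * g)⁻¹) * (c⁻¹ * el 4) := by
        rw [show el 4 * c⁻¹ = c⁻¹ * el 4 from
          ((show Commute c (el 4) from hz).inv_left.eq).symm]
    _ = g * a * g⁻¹ * el 4 := by group

theorem mSub_le : mSub ≤ hSub := genBy_mono (by decide)

theorem card_mSub : Nat.card mSub = 244823040 := by
  obtain ⟨e⟩ := nonempty_equiv_of_hom j_rels jx_ne_one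
  have h : mSub = Subgroup.closure ({jx, jy} : Set J4) := by
    rw [mSub, genBy]
    congr 1
    have e0 : el 0 = jx := rfl
    have e1 : el 1 = jy := rfl
    ext x
    simp [← e0, ← e1, eq_comm]
  rw [h, Nat.card_congr e.toEquiv, CfsgLib.Golay.natCard_M24]

theorem card_inf_le (hs : IsSimpleGroup J4) (H : Subgroup J4) (hH : mSub ≤ H) :
    1771 * Nat.card (Subgroup.centralizer ({el 4} : Set J4) ⊓ H : Subgroup J4) ≤ Nat.card H :=
  (Nat.mul_le_mul_right _ (card_orbit_ge hs)).trans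
    (card_inf_centralizer_mul_le H (el 4) _ fun _ hu =>
      let ⟨m, hm, he⟩ := orbit_mem hs hu
      ⟨m, hH hm, he⟩)

theorem centralizer_bound (hJ : Cfsg.IsJ4 J4) (hidx : hSub.index = 173067389)
    (hT : (tSet : Set (J4 ⧸ hSub)).ncard ≤ 77) :
    Nat.card (Subgroup.centralizer ({el 4} : Set J4)) ≤ 21799895040 := by
  have hs := hJ.1
  have h1 := card_centralizer_le hSub (el 4) tSet (tSet_base hs) (fun c hc p hp => tSet_inv hc hp)
  have h2 := card_inf_le hs hSub mSub_le
  have h3 := hSub.card_mul_index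
  rw [hidx, hJ.2] at h3
  nlinarith [Nat.card_pos (α := (Subgroup.centralizer ({el 4} : Set J4) ⊓ hSub : Subgroup J4))]

theorem structure_J4 (hJ : Cfsg.IsJ4 J4) (hidx : hSub.index = 173067389)
    (hT : (tSet : Set (J4 ⧸ hSub)).ncard ≤ 77) :
    ∃ z : J4, orderOf z = 2 ∧ ∃ (Q N M : Subgroup (Subgroup.centralizer ({z} : Set J4))), Q.Normal ∧ N.Normal ∧
      Q ≤ N ∧ N ≤ M ∧ Nat.card Q = 2 ^ 13 ∧ Cfsg.IsExtraspecial 2 Q ∧ Nat.card N = 3 * 2 ^ 13 ∧ M.index = 2 ∧
      ∃ (_ : (N.subgroupOf M).Normal), Cfsg.IsM22 (M ⧸ N.subgroupOf M) :=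
  ⟨el 4, orderOf_zJ hJ.1, structure_of_card hJ.1 (centralizer_bound hJ hidx hT)⟩

end CfsgLib.J4Cent
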