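import Cfsg.Agent.Lib.Presented.J4Cent.Defs

/-! Kernel check of the word equalities of the named elements. -/
set_option autoImplicit false
set_option maxRecDepth 20000
-- one kernel check at a time: memory
set_option Elab.async false

namespace CfsgLib.J4Cent

theorem eqs_ok₁ : (eqs.take 70).all eqOK = true := by decide +kernel

theorem eqs_ok₂ : ((eqs.drop 70).take 35).all eqOK = true := by decide +kernel

theorem eqs_ok₃ : (((eqs.drop 70).drop 35).take 40).all eqOK = true := by decide +kernel

theorem eqs_ok₄ : (((eqs.drop 70).drop 35).drop 40).all eqOK = true := by decide +kernel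

theorem eqs_ok : eqs.all eqOK = true := by
  rw [← List.take_append_drop 70 eqs, List.all_append, ← List.take_append_drop 35 (eqs.drop 70),
    List.all_append, ← List.take_append_drop 40 ((eqs.drop 70).drop 35), List.all_append, eqs_ok₁, eqs_ok₂,
    eqs_ok₃, eqs_ok₄]
  rfl

end CfsgLib.J4Cent
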