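import Cfsg.Agent.Lib.Presented.J4Cent.Defs

/-! Kernel check of the defining words of the named elements. -/
set_option autoImplicit false
set_option maxRecDepth 20000
-- one kernel check at a time: memory
set_option Elab.async false

namespace CfsgLib.J4Cent

theorem bound_ok : boundOK = true := by decide +kernel

theorem nodes_ok₁ : (List.range 7).all nodeOK = true := by decide +kernel

theorem nodes_ok₂ : (List.range' 7 5).all nodeOK = true := by decide +kernel

theorem nodes_ok₃ : (List.range' 12 7).all nodeOK = true := by decide +kernel

theorem nodes_ok₄ : (List.range' 19 11).all nodeOK = true := by decide +kernel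

theorem nodes_ok : (List.range 30).all nodeOK = true := by
  rw [show List.range 30 = List.range 7 ++ (List.range' 7 5 ++ (List.range' 12 7 ++ List.range' 19 11)) from rfl,
    List.all_append, List.all_append, List.all_append, nodes_ok₁, nodes_ok₂, nodes_ok₃, nodes_ok₄]
  rfl

end CfsgLib.J4Cent
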