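import Cfsg.Agent.Lib.Presented.J4Cent.Defs

/-! Kernel check of the action of the named elements on 77 vectors. -/
set_option autoImplicit false
set_option maxRecDepth 20000

namespace CfsgLib.J4Cent

theorem tree_ok : treeOK = true := by decide +kernel

theorem perm_ok : permOK = true := by decide +kernel

theorem fix_ok : fixOK = true := by decide +kernel

end CfsgLib.J4Cent
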