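import Cfsg.Agent.Lib.Presented.J4Cent.Tables
import Cfsg.Agent.Lib.Presented.J4Cent.Data
import Cfsg.Agent.Lib.J4Rep.Check

/-!
Executable definitions for the checks on named elements of the presented fourth Janko group.
-/
set_option autoImplicit false
set_option maxRecDepth 20000

namespace CfsgLib.J4Cent

open CfsgLib.Presented CfsgLib.J4Rep

/-- the matrices of all named elements -/
noncomputable def allTabs : List (ATree ℕ) := [tabX, tabYi, tabY, tabT] ++ newTabs

/-- the matrix of a named element -/
noncomputable def tabs (k : ℕ) : ATree ℕ := allTabs.getD k (.leaf 0)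

/-- action of a named element -/
noncomputable def actM (k v : ℕ) : ℕ := applyN (tabs k) v 112

/-- apply named elements, head first -/
noncomputable def runM : List ℕ → ℕ → ℕ
  | [], v => v
  | x :: w, v => Vec.force v fun u => runM w (actM x u)

/-- every entry of the new matrices is in range -/
noncomputable def boundOK : Bool :=
  newTabs.all fun T => (List.range 112).all fun i => Nat.blt (T.get i) (2 ^ 112)

/-- one defining word matches its matrix -/
noncomputable def nodeOK (k : ℕ) : Bool :=
  ((prog.getD k []).all fun a => Nat.blt a (k + 4)) &&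
    (List.range 112).all fun i => Nat.beq (runM (prog.getD k []).reverse (2 ^ i)) (actM (k + 4) (2 ^ i))

/-- two words have the same matrix -/
noncomputable def eqOK (p : List ℕ × List ℕ) : Bool :=
  (p.1.all fun a => Nat.blt a 34) && (p.2.all fun a => Nat.blt a 34) &&
    (List.range 112).all fun i => Nat.beq (runM p.1.reverse (2 ^ i)) (runM p.2.reverse (2 ^ i))

/-- the tree of vectors starts at the first vector and is correct -/
noncomputable def treeOK : Bool :=
  (List.range 76).all fun i =>
    Nat.blt (vecTree.getD i (0, 0)).1 (i + 1) &&
      ([1, 6].contains (vecTree.getD i (0, 0)).2 &&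
        Nat.beq (actM (vecTree.getD i (0, 0)).2 (vecs.getD (vecTree.getD i (0, 0)).1 0)) (vecs.getD (i + 1) 0))

/-- the recorded action on the vectors -/
noncomputable def permOK : Bool :=
  (List.range 77).all fun i =>
    Nat.beq (actM 1 (vecs.getD i 0)) (vecs.getD (vecPermY.getD i 77) 0) &&
      Nat.blt (vecPermY.getD i 77) 77 &&
      Nat.beq (actM 6 (vecs.getD i 0)) (vecs.getD (vecPermE.getD i 77) 0) &&
      Nat.blt (vecPermE.getD i 77) 77

/-- the named kernel elements fix all vectors -/
noncomputable def fixOK : Bool :=
  ([4, 10, 11, 12, 13, 14, 15, 16, 17, 18, 19, 20, 21, 22]).all fun k =>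
    vecs.all fun v => Nat.beq (actM k v) v

end CfsgLib.J4Cent
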