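import Cfsg.Agent.Lib.Presented.J4Cent.Basis
import Cfsg.Agent.Lib.Presented.J4Cent.CheckProg
import Cfsg.Agent.Lib.Presented.J4Cent.CheckEqs
import Cfsg.Agent.Lib.Presented.J4Cent.CheckVecs
import Cfsg.Agent.Lib.Presented.J4Mult.RepCheck

/-!
Named elements of the presented fourth Janko group and their matrices.
-/
set_option autoImplicit false
set_option maxRecDepth 20000

namespace CfsgLib.J4Cent

open CfsgLib.Presented CfsgLib.J4Rep CfsgLib.J4Mult Cfsg.Spor

/-- the first named elements -/
noncomputable def elemsUpTo : ℕ → List J4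
  | 0 => [ev4J 0, ev4J 1, ev4J 2, ev4J 3]
  | n + 1 => elemsUpTo n ++ [evW (fun k => (elemsUpTo n).getD k 1) (prog.getD n [])]

/-- a named element -/
noncomputable def el (k : ℕ) : J4 := (elemsUpTo 30).getD k 1

/-- an element is described by a matrix -/
def HasMat (k : ℕ) (g : J4) : Prop := ∀ v : Vec112, (rep g v).1 = actM k v.1

theorem length_elemsUpTo : ∀ n, (elemsUpTo n).length = n + 4
  | 0 => rfl
  | n + 1 => by rw [elemsUpTo, List.length_append, length_elemsUpTo n]; simp

theorem hasMat_word {l : ℕ → J4} {m : ℕ} (h : ∀ k < m, HasMat k (l k)) :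
    ∀ w : List ℕ, (∀ a ∈ w, a < m) → ∀ v : Vec112, (rep (evW l w) v).1 = runM w.reverse v.1
  | [], _, v => by rw [evW_nil, map_one]; rfl
  | a :: w, hw, v => by
    rw [evW_cons, map_mul, Equiv.Perm.mul_apply, h a (hw a List.mem_cons_self),
      hasMat_word h w (fun b hb => hw b (List.mem_cons_of_mem _ hb)) v, List.reverse_cons, runM_append,
      runM_cons]
    rfl

theorem hasMat_base (k : ℕ) (hk : k < 4) : HasMat k (ev4J k) := by
  intro v
  rw [rep_ev4J, apply_letter hk]
  obtain rfl | rfl | rfl | rfl : k = 0 ∨ k = 1 ∨ k = 2 ∨ k = 3 := by omega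
  all_goals rfl

theorem hasMat_upTo : ∀ n ≤ 30, ∀ k < n + 4, HasMat k ((elemsUpTo n).getD k 1)
  | 0, _, k, hk => by
    obtain rfl | rfl | rfl | rfl : k = 0 ∨ k = 1 ∨ k = 2 ∨ k = 3 := by omega
    all_goals exact hasMat_base _ (by norm_num)
  | n + 1, hn, k, hk => by
    have ih := hasMat_upTo n (by omega)
    rw [elemsUpTo]
    by_cases hb : k < n + 4
    · rw [List.getD_append _ _ _ _ (by rw [length_elemsUpTo]; exact hb)]
      exact ih k hb
    · obtain rfl : k = n + 4 := by omega
      rw [List.getD_append_right _ _ _ _ (by rw [length_elemsUpTo]), length_elemsUpTo, Nat.sub_self]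
      intro v
      have hok := List.all_eq_true.1 nodes_ok n (List.mem_range.2 (by omega))
      simp only [nodeOK, Bool.and_eq_true, List.all_eq_true, List.mem_range, Nat.blt_eq] at hok
      show (rep (evW _ (prog.getD n [])) v).1 = _
      rw [hasMat_word ih _ hok.1 v]
      exact basis_ext (runM_xor _) (actM_xor _) (fun i hi => Nat.eq_of_beq_eq_true (hok.2 i hi)) 112
        le_rfl _ v.2

theorem hasMat_el {k : ℕ} (hk : k < 34) : HasMat k (el k) := hasMat_upTo 30 le_rfl k hk

theorem rep_el_val {k : ℕ} (hk : k < 34) (v : Vec112) : (rep (el k) v).1 = actM k v.1 :=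
  hasMat_el hk v

/-- The checked equalities hold in the group. -/
theorem el_eq (hs : IsSimpleGroup J4) {p : List ℕ × List ℕ} (hp : p ∈ eqs) :
    evW el p.1 = evW el p.2 := by
  refine rep_injective hs (Equiv.ext fun v => Subtype.ext ?_)
  have hok := List.all_eq_true.1 eqs_ok p hp
  simp only [eqOK, Bool.and_eq_true, List.all_eq_true, List.mem_range, Nat.blt_eq] at hok
  rw [hasMat_word (fun k hk => hasMat_el hk) _ hok.1.1 v,
    hasMat_word (fun k hk => hasMat_el hk) _ hok.1.2 v]
  exact basis_ext (runM_xor _) (runM_xor _) (fun i hi => Nat.eq_of_beq_eq_true (hok.2 i hi)) 112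
    le_rfl _ v.2

end CfsgLib.J4Cent
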