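import Cfsg.Agent.Lib.PGroup.Frattini
import Cfsg.Prelude.Def_Transfer
import Mathlib.Tactic.Group

/-!
A group generated by a symplectic family of twelve involutions and a central involution is extraspecial.
-/
set_option autoImplicit false

namespace CfsgLib.J4Cent

open Subgroup
open scoped Pointwise commutatorElement

variable {G : Type*} [Group G] [Finite G]

theorem card_sup_le (N B : Subgroup G) (h : B ≤ normalizer (N : Set G)) :
    Nat.card (N ⊔ B : Subgroup G) ≤ Nat.card N * Nat.card B := by
  have e := coe_mul_of_right_le_normalizer_left N B h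
  rw [← SetLike.coe_sort_coe, e, ← Nat.card_prod]
  refine Nat.card_le_card_of_surjective
    (fun p : N × B => (⟨p.1 * p.2, Set.mul_mem_mul p.1.2 p.2.2⟩ : ((N : Set G) * (B : Set G) : Set G))) ?_
  rintro ⟨_, n, hn, b, hb, rfl⟩
  exact ⟨(⟨n, hn⟩, ⟨b, hb⟩), rfl⟩

theorem card_closure_le : ∀ {n : ℕ} (f : Fin n → G), (∀ i, f i * f i = 1) →
    (∀ i j, f i * f j = f j * f i) → Nat.card (closure (Set.range f)) ≤ 2 ^ n
  | 0, f, _, _ => by
    rw [show Set.range f = ∅ from Set.range_eq_empty f, Subgroup.closure_empty, card_bot, pow_zero]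
  | n + 1, f, h1, h2 => by
    have ih := card_closure_le (fun i => f i.succ) (fun i => h1 _) (fun i j => h2 _ _)
    have e : Set.range f = (Set.range fun i => f (Fin.succ i)) ∪ {f 0} := by
      ext x
      simp only [Set.mem_range, Set.union_singleton, Set.mem_insert_iff]
      constructor
      · rintro ⟨i, rfl⟩
        exact i.cases (Or.inl rfl) fun j => Or.inr ⟨j, rfl⟩
      · rintro (rfl | ⟨j, rfl⟩)
        exacts [⟨0, rfl⟩, ⟨_, rfl⟩]
    rw [e, Subgroup.closure_union, ← zpowers_eq_closure, pow_succ]
    refine (card_sup_le _ _ ?_).trans (Nat.mul_le_mul ih ?_)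
    · rw [zpowers_le]
      refine centralizer_le_normalizer _ ?_
      rw [centralizer_closure]
      rintro _ ⟨i, rfl⟩
      exact h2 _ _
    · rw [Nat.card_zpowers]
      exact orderOf_le_of_pow_eq_one (by norm_num) (by rw [pow_two, h1])

/-- the hypotheses on a symplectic family -/
structure Symplectic (z : G) (a b : Fin 6 → G) : Prop where
  zz : z * z = 1
  ne : z ≠ 1
  aa : ∀ i, a i * a i = 1
  bb : ∀ i, b i * b i = 1
  ca : ∀ i j, a i * a j = a j * a i
  cb : ∀ i j, b i * b j = b j * b i
  za : ∀ i, z * a i = a i * z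
  zb : ∀ i, z * b i = b i * z
  ab : ∀ i j, a i * b j = b j * a i * if i = j then z else 1

variable {z : G} {a b : Fin 6 → G}

/-- the generated group -/
def qGroup (z : G) (a b : Fin 6 → G) : Subgroup G :=
  closure ({z} ∪ Set.range a ∪ Set.range b)

theorem Symplectic.card_le (h : Symplectic z a b) : Nat.card (qGroup z a b) ≤ 2 ^ 13 := by
  have hA : Nat.card (closure ({z} ∪ Set.range a) : Subgroup G) ≤ 2 ^ 7 := by
    have e : ({z} ∪ Set.range a : Set G) = Set.range (Fin.cons z a : Fin 7 → G) := by
      rw [Fin.range_cons, Set.singleton_union]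
    rw [e]
    refine card_closure_le _ (fun i => ?_) (fun i j => ?_)
    · induction i using Fin.cases with
      | zero => simpa using h.zz
      | succ i => simpa using h.aa i
    · induction i using Fin.cases with
      | zero =>
        induction j using Fin.cases with
        | zero => rfl
        | succ j => simpa using h.za j
      | succ i =>
        induction j using Fin.cases with
        | zero => simpa using (h.za i).symm
        | succ j => simpa using h.ca i j
  have hB : Nat.card (closure (Set.range b) : Subgroup G) ≤ 2 ^ 6 := card_closure_le b h.bb h.cb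
  have hn : closure (Set.range b) ≤
      normalizer ((closure ({z} ∪ Set.range a) : Subgroup G) : Set G) := by
    rw [closure_le]
    rintro _ ⟨j, rfl⟩
    have hz : z ∈ closure ({z} ∪ Set.range a) := subset_closure (Or.inl rfl)
    have key : ∀ x ∈ closure ({z} ∪ Set.range a),
        b j * x * (b j)⁻¹ ∈ closure ({z} ∪ Set.range a) := by
      intro x hx
      have hle : closure ({z} ∪ Set.range a) ≤
          (closure ({z} ∪ Set.range a)).comap (MulAut.conj (b j)).toMonoidHom := by
        rw [closure_le]
        rintro _ (rfl | ⟨i, rfl⟩)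
        · simp only [SetLike.mem_coe, mem_comap, MulEquiv.coe_toMonoidHom, MulAut.conj_apply]
          rw [← h.zb j, mul_assoc, mul_inv_cancel, mul_one]
          exact hz
        · simp only [SetLike.mem_coe, mem_comap, MulEquiv.coe_toMonoidHom, MulAut.conj_apply]
          have hd : a i * b j = b j * a i * if i = j then z else 1 := h.ab i j
          have hai : a i ∈ closure ({z} ∪ Set.range a) := subset_closure (Or.inr ⟨i, rfl⟩)
          by_cases hij : i = j
          · rw [if_pos hij] at hd
            have : b j * a i * (b j)⁻¹ = a i * z := by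
              calc b j * a i * (b j)⁻¹ = b j * a i * z * z * (b j)⁻¹ := by
                    rw [mul_assoc (b j * a i) z z, h.zz, mul_one]
                _ = a i * (b j * z) * (b j)⁻¹ := by rw [← hd]; simp only [mul_assoc]
                _ = a i * z := by rw [← h.zb j]; group
            rw [this]
            exact mul_mem hai hz
          · rw [if_neg hij, mul_one] at hd
            rw [← hd, mul_inv_cancel_right]
            exact hai
      simpa using hle hx
    rw [SetLike.mem_coe, mem_normalizer_iff]
    intro x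
    refine ⟨key x, fun hx => ?_⟩
    have := key _ hx
    rw [inv_eq_of_mul_eq_one_right (h.bb j)] at this
    have e : b j * (b j * x * b j) * b j = x := by
      rw [← mul_assoc, ← mul_assoc, h.bb, one_mul, mul_assoc, h.bb, mul_one]
    rwa [e] at this
  rw [qGroup, Subgroup.closure_union]
  refine (card_sup_le _ _ hn).trans ?_
  rw [show (2 : ℕ) ^ 13 = 2 ^ 7 * 2 ^ 6 by norm_num]
  exact Nat.mul_le_mul hA hB

/-- the generators inside the generated group -/
def qGen (z : G) (a b : Fin 6 → G) : Fin 6 ⊕ Fin 6 → qGroup z a b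
  | .inl i => ⟨a i, subset_closure (Or.inl (Or.inr ⟨i, rfl⟩))⟩
  | .inr i => ⟨b i, subset_closure (Or.inr ⟨i, rfl⟩)⟩

/-- the central involution inside the generated group -/
def qZ (z : G) (a b : Fin 6 → G) : qGroup z a b := ⟨z, subset_closure (Or.inl (Or.inl rfl))⟩

theorem Symplectic.isExtraspecial (h : Symplectic z a b) :
    Nat.card (qGroup z a b) = 2 ^ 13 ∧ Cfsg.IsExtraspecial 2 (qGroup z a b) := by
  set zq := qZ z a b with hzq
  set g := qGen z a b with hg
  have hzq2 : zq * zq = 1 := Subtype.ext h.zz
  have hzne : zq ≠ 1 := fun e => h.ne (congrArg Subtype.val e)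
  have htop : ∀ H : Subgroup (qGroup z a b), zq ∈ H → (∀ i, g i ∈ H) → H = ⊤ := by
    intro H hz hH
    rw [eq_top_iff]
    refine (closure_closure_coe_preimage (k := {z} ∪ Set.range a ∪ Set.range b)).ge.trans ?_
    refine (closure_le H).2 ?_
    rintro ⟨x, hx⟩ ((hx' | ⟨i, hi⟩) | ⟨i, hi⟩)
    · rw [show (⟨x, hx⟩ : qGroup z a b) = zq from Subtype.ext hx']; exact hz
    · rw [show (⟨x, hx⟩ : qGroup z a b) = g (.inl i) from Subtype.ext hi.symm]; exact hH _
    · rw [show (⟨x, hx⟩ : qGroup z a b) = g (.inr i) from Subtype.ext hi.symm]; exact hH _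
  have hzc : zq ∈ center (qGroup z a b) := by
    have := htop (centralizer {zq}) (mem_centralizer_singleton_iff.2 rfl) (fun i => by
      rw [mem_centralizer_singleton_iff]
      rcases i with i | i
      · exact Subtype.ext (h.za i).symm
      · exact Subtype.ext (h.zb i).symm)
    rw [mem_center_iff]
    intro x
    exact mem_centralizer_singleton_iff.1 (this ▸ mem_top x)
  set Z0 := zpowers zq with hZ0
  have hZc : Z0 ≤ center (qGroup z a b) := zpowers_le.2 hzc
  have : Z0.Normal := ⟨fun x hx y => by
    rwa [mem_center_iff.1 (hZc hx) y, mul_inv_cancel_right]⟩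
  have hcm : ∀ i j, ⁅g i, g j⁆ ∈ Z0 := by
    intro i j
    have key : ∀ x y : qGroup z a b, (x * y = y * x ∨ x * y = y * x * zq) → ⁅x, y⁆ ∈ Z0 := by
      rintro x y (e | e)
      · rw [commutatorElement_eq_one_iff_mul_comm.2 e]; exact one_mem _
      · have : ⁅x, y⁆ = zq := by
          rw [commutatorElement_def, e, mem_center_iff.1 hzc (y * x)]
          group
        rw [this]; exact mem_zpowers _
    rcases i with i | i <;> rcases j with j | j
    · exact key _ _ (Or.inl (Subtype.ext (h.ca i j)))
    · refine key _ _ ?_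
      by_cases hij : i = j
      · exact Or.inr (Subtype.ext ((h.ab i j).trans (by rw [if_pos hij]; rfl)))
      · exact Or.inl (Subtype.ext ((h.ab i j).trans (by rw [if_neg hij, mul_one]; rfl)))
    · refine key _ _ ?_
      by_cases hij : j = i
      · refine Or.inr (Subtype.ext ?_)
        show b i * a j = a j * b i * z
        rw [h.ab j i, if_pos hij, mul_assoc, h.zz, mul_one]
      · refine Or.inl (Subtype.ext ?_)
        show b i * a j = a j * b i
        rw [h.ab j i, if_neg hij, mul_one]
    · exact key _ _ (Or.inl (Subtype.ext (h.cb i j)))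
  let _ : CommGroup Z0 :=
    { (inferInstance : Group Z0) with
      mul_comm := fun u v => Subtype.ext (mem_center_iff.1 (hZc v.2) u) }
  have hmul : ∀ j, ∀ x y : qGroup z a b, ⁅x, g j⁆ ∈ Z0 → ⁅y, g j⁆ ∈ Z0 → ⁅x * y, g j⁆ = ⁅x, g j⁆ * ⁅y, g j⁆ := by
    intro j x y _ hy
    calc ⁅x * y, g j⁆ = x * ⁅y, g j⁆ * x⁻¹ * ⁅x, g j⁆ := by simp only [commutatorElement_def]; group
      _ = ⁅y, g j⁆ * ⁅x, g j⁆ := by rw [mem_center_iff.1 (hZc hy) x, mul_inv_cancel_right]
      _ = ⁅x, g j⁆ * ⁅y, g j⁆ := (mem_center_iff.1 (hZc hy) _).symm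
  have hall : ∀ j, ∀ x : qGroup z a b, ⁅x, g j⁆ ∈ Z0 := by
    intro j
    let H : Subgroup (qGroup z a b) :=
      { carrier := {x | ⁅x, g j⁆ ∈ Z0}
        one_mem' := by simp [commutatorElement_one_left]
        mul_mem' := fun {x y} hx hy => by
          show ⁅x * y, g j⁆ ∈ Z0
          rw [hmul j x y hx hy]
          exact mul_mem hx hy
        inv_mem' := fun {x} hx => by
          show ⁅x⁻¹, g j⁆ ∈ Z0
          have e : ⁅x⁻¹, g j⁆ = x⁻¹ * ⁅x, g j⁆⁻¹ * x := by simp only [commutatorElement_def]; group
          rw [e, mem_center_iff.1 (hZc (inv_mem hx)) x⁻¹, inv_mul_cancel_right]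
          exact inv_mem hx }
    have hH := htop H (by
      show ⁅zq, g j⁆ ∈ Z0
      rw [commutatorElement_eq_one_iff_mul_comm.2 (mem_center_iff.1 hzc (g j)).symm]
      exact one_mem _) (fun i => hcm i j)
    exact fun x => (hH ▸ mem_top x : x ∈ H)
  let φ : qGroup z a b →* (Fin 6 ⊕ Fin 6 → Z0) :=
    { toFun := fun x j => ⟨⁅x, g j⁆, hall j x⟩
      map_one' := funext fun j => Subtype.ext (commutatorElement_one_left _)
      map_mul' := fun x y => funext fun j => Subtype.ext (hmul j x y (hall j x) (hall j y)) }
  have hker : φ.ker = center (qGroup z a b) := by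
    ext x
    constructor
    · intro hx
      have := htop (centralizer {x}) (mem_centralizer_singleton_iff.2 (mem_center_iff.1 hzc x).symm)
        (fun j => by
          rw [mem_centralizer_singleton_iff]
          exact (commutatorElement_eq_one_iff_mul_comm.1 (congrArg Subtype.val (congrFun hx j))).symm)
      rw [mem_center_iff]
      intro y
      exact mem_centralizer_singleton_iff.1 (this ▸ mem_top y)
    · intro hx
      exact funext fun j =>
        Subtype.ext (commutatorElement_eq_one_iff_mul_comm.2 (mem_center_iff.1 hx (g j)).symm)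
  have hzc2 : Nat.card Z0 = 2 := by
    rw [Nat.card_zpowers, orderOf_eq_prime (by rw [pow_two, hzq2]) hzne]
  have hval : ∀ i j, φ (g i) j = if j = i.swap then ⟨zq, mem_zpowers _⟩ else 1 := by
    intro i j
    apply Subtype.ext
    show ⁅g i, g j⁆ = _
    have k1 : ∀ x y : qGroup z a b, x * y = y * x * zq → ⁅x, y⁆ = zq := fun x y e => by
      rw [commutatorElement_def, e, mem_center_iff.1 hzc (y * x)]
      group
    rcases i with i | i <;> rcases j with j | j
    · rw [if_neg (by simp), commutatorElement_eq_one_iff_mul_comm.2 (Subtype.ext (h.ca i j))]; rfl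
    · by_cases hij : i = j
      · subst hij
        rw [if_pos (by rfl), k1 _ _ (Subtype.ext ((h.ab i i).trans (by rw [if_pos rfl]; rfl)))]
      · rw [if_neg (show ¬ (Sum.inr j : Fin 6 ⊕ Fin 6) = (Sum.inl i).swap from
            fun e => hij (Sum.inr_injective e).symm),
          commutatorElement_eq_one_iff_mul_comm.2
            (Subtype.ext ((h.ab i j).trans (by rw [if_neg hij, mul_one]; rfl)))]
        rfl
    · by_cases hij : j = i
      · subst hij
        rw [if_pos (by rfl), k1 _ _ (Subtype.ext (by
          show b j * a j = a j * b j * z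
          rw [h.ab j j, if_pos rfl, mul_assoc, h.zz, mul_one]))]
      · rw [if_neg (show ¬ (Sum.inl j : Fin 6 ⊕ Fin 6) = (Sum.inr i).swap from
            fun e => hij (Sum.inl_injective e)),
          commutatorElement_eq_one_iff_mul_comm.2 (Subtype.ext (by
            show b i * a j = a j * b i
            rw [h.ab j i, if_neg hij, mul_one]))]
        rfl
    · rw [if_neg (by simp), commutatorElement_eq_one_iff_mul_comm.2 (Subtype.ext (h.cb i j))]; rfl
  have hsur : φ.range = ⊤ := by
    rw [eq_top_iff]
    intro f _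
    rw [← Finset.univ_prod_mulSingle f]
    refine prod_mem fun j _ => ?_
    have hf : f j = 1 ∨ f j = ⟨zq, mem_zpowers _⟩ := by
      obtain ⟨k, hk⟩ := mem_zpowers_iff.1 (f j).2
      rcases Int.even_or_odd' k with ⟨m, rfl | rfl⟩
      · left; apply Subtype.ext
        rw [← hk, zpow_mul, zpow_two, hzq2, one_zpow]; rfl
      · right; apply Subtype.ext
        rw [← hk, zpow_add, zpow_mul, zpow_two, hzq2, one_zpow, one_mul, zpow_one]
    rcases hf with e | e
    · rw [e, Pi.mulSingle_one]; exact one_mem _
    · rw [e]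
      refine ⟨g j.swap, funext fun k => ?_⟩
      rw [hval, Sum.swap_swap, Pi.mulSingle_apply]
  have hcard : Nat.card φ.ker * 2 ^ 12 = Nat.card (qGroup z a b) := by
    rw [← φ.ker.card_mul_index, index_ker, hsur, card_top, Nat.card_fun, hzc2,
      show Nat.card (Fin 6 ⊕ Fin 6) = 12 by simp]
  have hZk : Z0 ≤ φ.ker := hker ▸ hZc
  have hk2 : Nat.card φ.ker = 2 := by
    have h1 := card_le_of_le hZk
    rw [hzc2] at h1
    have h2 := h.card_le
    rw [← hcard, show (2 : ℕ) ^ 13 = 2 * 2 ^ 12 by norm_num] at h2
    exact le_antisymm (Nat.le_of_mul_le_mul_right h2 (by norm_num)) h1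
  have hcen : center (qGroup z a b) = Z0 := by
    rw [← hker]
    exact (eq_of_le_of_card_ge hZk (by rw [hk2, hzc2])).symm
  have hQ : Nat.card (qGroup z a b) = 2 ^ 13 := by rw [← hcard, hk2]; norm_num
  have hp : IsPGroup 2 (qGroup z a b) := IsPGroup.of_card hQ
  have : Fact (Nat.Prime 2) := ⟨Nat.prime_two⟩
  have hcomm : commutator (qGroup z a b) = center (qGroup z a b) := by
    refine le_antisymm ?_ ?_
    · rw [← hker]
      exact Abelianization.commutator_subset_ker φ
    · rw [hcen, hZ0, zpowers_le]
      have e := congrArg Subtype.val (hval (.inl 0) (.inr 0))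
      rw [if_pos (by rfl)] at e
      rw [← show ⁅g (.inl 0), g (.inr 0)⁆ = zq from e]
      exact commutator_mem_commutator (mem_top _) (mem_top _)
  refine ⟨hQ, ⟨hp, ?_, hcomm⟩, by rw [hcen, hzc2]⟩
  refine le_antisymm ?_ ?_
  · refine CfsgLib.PGroup.frattini_le_of (p := 2) _ hcomm.le fun x => ?_
    rw [← hker, MonoidHom.mem_ker, map_pow]
    funext j
    apply Subtype.ext
    obtain ⟨k, hk⟩ := mem_zpowers_iff.1 (φ x j).2
    show ((φ x j) ^ 2 : Z0).1 = 1
    rw [SubmonoidClass.coe_pow, ← hk, ← zpow_natCast, ← zpow_mul, mul_comm, zpow_mul, zpow_natCast,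
      pow_two, hzq2, one_zpow]
  · rw [← hcomm]
    exact CfsgLib.PGroup.commutator_le_frattini hp

end CfsgLib.J4Cent
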