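import Cfsg.Agent.Lib.Presented.Tree

/-! Generated tables inverting `v ↦ (a v + v)` over the basis `a` of the elementary abelian subgroup of order
2048 of the index 173067389 subgroup of the presented fourth Janko group, modulo their common fixed vector. -/
set_option autoImplicit false
set_option maxRecDepth 20000

namespace CfsgLib.J4Cent

open CfsgLib.Presented

/-- the table for basis element 0 -/
def fixTab0 : ATree ℕ :=
(.node (.node (.node (.node (.node (.node (.node (.leaf 0xb152b7880b7b8ff03a11a53afd80)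
 (.leaf 0))
 (.node (.leaf 0x7cf5abadc7a9dd572831176eb516)
 (.leaf 0)))
 (.node (.node (.leaf 0x375c0a298c483d8f65b1c93cb4a0)
 (.leaf 0))
 (.node (.leaf 0x4b3abf76bde12ed14bfca0510f66)
 (.leaf 0))))
 (.node (.node (.node (.leaf 0x26df63025f7b853d85b3fccdf720)
 (.leaf 0))
 (.node (.leaf 0xb698db6212042e23b198616fcbea)
 (.leaf 0)))
 (.node (.node (.leaf 0x739be8be7e58015e020f6433267c)
 (.leaf 0))
 (.leaf 0))))
 (.node (.node (.node (.node (.leaf 0x622a1c6f5711577891ae9c0bcf9e)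
 (.leaf 0))
 (.node (.leaf 0x7fdcc06c959d65e12b9af4c203a2)
 (.leaf 0)))
 (.node (.node (.leaf 0x61677359fb39d101e68cd72b6a88)
 (.leaf 0))
 (.node (.leaf 0x531eeddcfe368235018fce777ba4)
 (.leaf 0))))
 (.node (.node (.node (.leaf 0xf8d17365c435938eeb283bb0d6ae)
 (.leaf 0))
 (.node (.leaf 0xedf08c7a6f5be5e69e03c74b0c04)
 (.leaf 0)))
 (.node (.node (.leaf 0xa9c9a5da5aa3844f7039d03881ae)
 (.leaf 0))
 (.leaf 0)))))
 (.node (.node (.node (.node (.node (.leaf 0xa398ed0f8d27daa4fe67b61191c6)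
 (.leaf 0))
 (.node (.leaf 0xed8d1545ef70737abc6323500938)
 (.leaf 0)))
 (.node (.node (.leaf 0xcb98a3270fb3ac2f766964e833cc)
 (.leaf 0))
 (.leaf 0)))
 (.node (.node (.node (.leaf 0x73cfe5f45769084b1c8744b55642)
 (.leaf 0))
 (.node (.leaf 0xff70906f2995f10af2fd53a82616)
 (.leaf 0)))
 (.node (.node (.leaf 0xa6e164873cf8d133d2fb5937859e)
 (.leaf 0))
 (.leaf 0))))
 (.node (.node (.node (.node (.leaf 0xaa64d836e21ccfe333b0ff25ce9c)
 (.leaf 0))
 (.node (.leaf 0x8de2289d4310e9ff6d6f71683d04)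
 (.leaf 0)))
 (.node (.node (.leaf 0xca68c4b711a4ad1113bd758a30e2)
 (.leaf 0))
 (.leaf 0)))
 (.node (.node (.node (.leaf 0xa58ba28250fba7094a8b745854fc)
 (.leaf 0))
 (.node (.leaf 0x13580e0238c2a5b0f78a32d38c48)
 (.leaf 0)))
 (.node (.node (.leaf 0x3727544fe11adeb3de13b845a006)
 (.leaf 0))
 (.leaf 0))))))
 (.node (.node (.node (.node (.node (.node (.leaf 0x201fb55d08656b874f9f1504d088)
 (.leaf 0))
 (.node (.leaf 0xd216993d889bdd1f19247c29c5b8)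
 (.leaf 0)))
 (.node (.node (.leaf 0x46d16ef889ddc314c2e8d82e45ee)
 (.leaf 0))
 (.leaf 0)))
 (.node (.node (.node (.leaf 0x8a78639577c8a0fdbeb45270aa84)
 (.leaf 0))
 (.node (.leaf 0xfd9f3a273cb8dc5d56aeecdf79e0)
 (.leaf 0)))
 (.node (.node (.leaf 0x36db382cb9963bc9526a478452c)
 (.leaf 0))
 (.leaf 0))))
 (.node (.node (.node (.node (.leaf 0xcdc984d63db2806a399395dd6796)
 (.leaf 0))
 (.node (.leaf 0x95a0fbb6aef33534f965369774c0)
 (.leaf 0)))
 (.node (.node (.leaf 0x78ddc473054496ba208c0840c00c)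
 (.leaf 0))
 (.leaf 0)))
 (.node (.node (.node (.leaf 0x63c54f600303b7f2e4c3cde3abf6)
 (.leaf 0))
 (.node (.leaf 0x9a2fb1e71a11dbfda0273c13cb06)
 (.leaf 0)))
 (.node (.node (.leaf 0x1fcd0f89a0e340bb6cc091966cda)
 (.leaf 0))
 (.leaf 0)))))
 (.node (.node (.node (.node (.node (.leaf 0xdb485c5e62ada3a4333e87fdba8e)
 (.leaf 0))
 (.node (.leaf 0xe8fd889c5caa99c93f1dcbb7a74e)
 (.leaf 0)))
 (.node (.node (.leaf 0xa4f7974e46e284db3f6e67a0068)
 (.leaf 0))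
 (.leaf 0)))
 (.node (.node (.node (.leaf 0x125d0c0a96c909ea7819906f0bf2)
 (.leaf 0))
 (.node (.leaf 0xe6ee74960e8b6f3c5152f799cd82)
 (.leaf 0)))
 (.node (.node (.leaf 0x7b6dd6bc343a55028a7a6e17823c)
 (.leaf 0))
 (.leaf 0))))
 (.node (.node (.node (.node (.leaf 0x754b6a00cc61cb1c5bb638efafaa)
 (.leaf 0))
 (.node (.leaf 0x136fafdd4e534a6fdb8165279f00)
 (.leaf 0)))
 (.node (.node (.leaf 0x91a7d13c85b95524c4dbde32690)
 (.leaf 0))
 (.leaf 0)))
 (.node (.node (.node (.leaf 0x695ee91f5eec8f992333c9a0e8)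
 (.leaf 0))
 (.node (.leaf 0xb1c6318f3eb54ee3f0e09ffe488c)
 (.leaf 0)))
 (.node (.node (.leaf 0x6ab9c1fc1637b3bf059fe72c977a)
 (.leaf 0))
 (.leaf 0)))))))

/-- the table for basis element 1 -/
def fixTab1 : ATree ℕ :=
(.node (.node (.node (.node (.node (.node (.node (.leaf 0x2e38abb7ade5840d8e3b47fef23c)
 (.leaf 0))
 (.leaf 0))
 (.node (.node (.leaf 0x44f12e8a104fa4ac7230062b5e3c)
 (.leaf 0))
 (.leaf 0)))
 (.node (.node (.node (.leaf 0x1b50c6727a3f25180a6bfe4a6c62)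
 (.leaf 0))
 (.leaf 0))
 (.node (.node (.leaf 0x8e4ee105c5fd8d63fc19f0eaebd6)
 (.leaf 0))
 (.leaf 0))))
 (.node (.node (.node (.node (.leaf 0x4a9af7f7a68039c366ede8e31138)
 (.leaf 0))
 (.leaf 0))
 (.node (.node (.leaf 0x469ef903334d194c8631e90ca9c4)
 (.leaf 0))
 (.leaf 0)))
 (.node (.node (.node (.leaf 0xb47e10aaafebd93dec0439586cd2)
 (.leaf 0))
 (.leaf 0))
 (.leaf 0))))
 (.node (.node (.node (.node (.node (.leaf 0xd4005dd75f465c904d8ef8f734dc)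
 (.leaf 0))
 (.leaf 0))
 (.node (.node (.leaf 0x80c326e9ac53db1bc4b53a146b42)
 (.leaf 0))
 (.leaf 0)))
 (.node (.node (.node (.leaf 0xeef30e712c36ada20845c58a9cd0)
 (.leaf 0))
 (.leaf 0))
 (.node (.node (.leaf 0x29c85f5357e4d2c0e81fba5d3c56)
 (.leaf 0))
 (.leaf 0))))
 (.node (.node (.node (.node (.leaf 0x13bd06e2062f468600b511a105c0)
 (.leaf 0))
 (.leaf 0))
 (.node (.node (.leaf 0xa778420f883cb2fcdaeed4952b60)
 (.leaf 0))
 (.leaf 0)))
 (.node (.node (.node (.leaf 0x237e0ee3427d54047df58f2cd390)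
 (.leaf 0))
 (.leaf 0))
 (.leaf 0)))))
 (.node (.node (.node (.node (.node (.node (.leaf 0xf181d4cfe24ca80ea51715a8c69c)
 (.leaf 0))
 (.leaf 0))
 (.node (.node (.leaf 0x2bf07d905c5138f323d23b7e5bf8)
 (.leaf 0))
 (.leaf 0)))
 (.node (.node (.node (.leaf 0x356658659887914c020d7b8b67ce)
 (.leaf 0))
 (.leaf 0))
 (.leaf 0)))
 (.node (.node (.node (.node (.leaf 0x222878035f7b12c25e9c46cb4554)
 (.leaf 0))
 (.leaf 0))
 (.node (.node (.leaf 0x22ec3df4a8fc3246056f92913a74)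
 (.leaf 0))
 (.leaf 0)))
 (.node (.node (.node (.leaf 0x1ac8a0fa714630b384edcfe5828)
 (.leaf 0))
 (.leaf 0))
 (.leaf 0))))
 (.node (.node (.node (.node (.node (.leaf 0xf7fc7210901b34a66e8a84d2838e)
 (.leaf 0))
 (.leaf 0))
 (.node (.node (.leaf 0x59a213298c3c1c0d1724248b592e)
 (.leaf 0))
 (.leaf 0)))
 (.node (.node (.node (.leaf 0x519345dad65bee70a1d135a6bfd8)
 (.leaf 0))
 (.leaf 0))
 (.leaf 0)))
 (.node (.node (.node (.node (.leaf 0x99b0ea696001939f07a060143fee)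
 (.leaf 0))
 (.leaf 0))
 (.leaf 0))
 (.node (.node (.node (.leaf 0x6c6a9218328a6126e4c262f5e7c2)
 (.leaf 0))
 (.leaf 0))
 (.leaf 0))))))

/-- the table for basis element 2 -/
def fixTab2 : ATree ℕ :=
(.node (.node (.node (.node (.node (.node (.node (.leaf 0xcfa821e2f67a0068154b828312da)
 (.leaf 0))
 (.leaf 0))
 (.leaf 0))
 (.node (.node (.node (.leaf 0x4145522fda32f6a4a6e5e6e852d6)
 (.leaf 0))
 (.leaf 0))
 (.leaf 0)))
 (.node (.node (.node (.node (.leaf 0x6cae0ceb836f54362f19f49541a6)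
 (.leaf 0))
 (.leaf 0))
 (.leaf 0))
 (.node (.node (.node (.leaf 0x18b983773d2913f67cebded5a4f6)
 (.leaf 0))
 (.leaf 0))
 (.leaf 0))))
 (.node (.node (.node (.node (.node (.leaf 0x1955a4b66971b02969d369cef8a0)
 (.leaf 0))
 (.leaf 0))
 (.leaf 0))
 (.leaf 0))
 (.node (.node (.node (.node (.leaf 0x75be875893cfafde10b3db575c2c)
 (.leaf 0))
 (.leaf 0))
 (.leaf 0))
 (.leaf 0))))
 (.node (.node (.node (.node (.node (.node (.leaf 0xe23544ebedca2c09c40318f6dff4)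
 (.leaf 0))
 (.leaf 0))
 (.leaf 0))
 (.node (.node (.node (.leaf 0x2dc0c332b67745ef323683ccd9a8)
 (.leaf 0))
 (.leaf 0))
 (.leaf 0)))
 (.node (.node (.node (.node (.leaf 0x6cd9413f332287430b04e414cb58)
 (.leaf 0))
 (.leaf 0))
 (.leaf 0))
 (.leaf 0)))
 (.node (.node (.node (.node (.node (.leaf 0x18f65555e8aae67ec18700f21cd8)
 (.leaf 0))
 (.leaf 0))
 (.leaf 0))
 (.leaf 0))
 (.node (.node (.node (.node (.leaf 0x2dcb4c0ce885a620a58a83189f28)
 (.leaf 0))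
 (.leaf 0))
 (.leaf 0))
 (.leaf 0)))))

/-- the table for basis element 3 -/
def fixTab3 : ATree ℕ :=
(.node (.node (.node (.node (.node (.node (.node (.leaf 0x8c98ca8b653632b2d16b6c25256c)
 (.leaf 0))
 (.leaf 0))
 (.leaf 0))
 (.leaf 0))
 (.node (.node (.node (.node (.leaf 0x357b5171f6ced25451ba3b9d7d5e)
 (.leaf 0))
 (.leaf 0))
 (.leaf 0))
 (.leaf 0)))
 (.node (.leaf 0)
 (.node (.node (.node (.node (.leaf 0x7dad6d13df6b5b4cf8ccd5a8a6)
 (.leaf 0))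
 (.leaf 0))
 (.leaf 0))
 (.leaf 0))))
 (.node (.node (.node (.node (.node (.node (.leaf 0xcc4ea00b7ce3a012cf543aad7572)
 (.leaf 0))
 (.leaf 0))
 (.leaf 0))
 (.node (.node (.node (.leaf 0x358712214d61c488539ab3f9ec)
 (.leaf 0))
 (.leaf 0))
 (.leaf 0)))
 (.node (.node (.node (.node (.leaf 0x75aa7d84fe0a91690bc30c2b0da8)
 (.leaf 0))
 (.leaf 0))
 (.leaf 0))
 (.leaf 0)))
 (.node (.node (.node (.node (.node (.leaf 0x352eb3583a1baade2a8350fffab4)
 (.leaf 0))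
 (.leaf 0))
 (.leaf 0))
 (.leaf 0))
 (.node (.node (.node (.node (.leaf 0x3561df52199871dcaa6e6776b82a)
 (.leaf 0))
 (.leaf 0))
 (.leaf 0))
 (.leaf 0)))))

/-- the table for basis element 4 -/
def fixTab4 : ATree ℕ :=
(.node (.node (.node (.node (.node (.node (.node (.leaf 0x79667a0de1b9909354045adb2778)
 (.leaf 0))
 (.leaf 0))
 (.leaf 0))
 (.leaf 0))
 (.node (.node (.node (.node (.leaf 0x7596472a42459fc2a4d22ad4f6cc)
 (.leaf 0))
 (.leaf 0))
 (.leaf 0))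
 (.leaf 0)))
 (.leaf 0))
 (.node (.node (.node (.node (.node (.node (.leaf 0x3981dc7dfd90710f4b46c48d9b5e)
 (.leaf 0))
 (.leaf 0))
 (.leaf 0))
 (.node (.node (.node (.leaf 0x75c32abca900c4a7160f36557c02)
 (.leaf 0))
 (.leaf 0))
 (.leaf 0)))
 (.node (.node (.node (.node (.leaf 0x75c32eb58810c5a55e4b36465722)
 (.leaf 0))
 (.leaf 0))
 (.leaf 0))
 (.leaf 0)))
 (.node (.node (.node (.node (.node (.leaf 0x75e688d1eea9ac3c47e67f498a22)
 (.leaf 0))
 (.leaf 0))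
 (.leaf 0))
 (.leaf 0))
 (.node (.node (.node (.node (.leaf 0x40976d8291d5d360b432cb46fc38)
 (.leaf 0))
 (.leaf 0))
 (.leaf 0))
 (.leaf 0)))))

/-- the table for basis element 5 -/
def fixTab5 : ATree ℕ :=
(.node (.node (.node (.node (.node (.node (.node (.leaf 0x59d34cc961d4d9226439fe2ba280)
 (.leaf 0))
 (.leaf 0))
 (.leaf 0))
 (.leaf 0))
 (.node (.node (.node (.node (.leaf 0x40d2f3f01144b4fc1c1abf83b3d2)
 (.leaf 0))
 (.leaf 0))
 (.leaf 0))
 (.leaf 0)))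
 (.leaf 0))
 (.node (.node (.node (.node (.node (.node (.leaf 0x59b243927ecc9af4abf2b0252aee)
 (.leaf 0))
 (.leaf 0))
 (.leaf 0))
 (.leaf 0))
 (.leaf 0))
 (.node (.node (.node (.node (.node (.leaf 0x40b3fcab0e5cf72ad3d1f100074c)
 (.leaf 0))
 (.leaf 0))
 (.leaf 0))
 (.leaf 0))
 (.leaf 0))))

/-- the table for basis element 6 -/
def fixTab6 : ATree ℕ :=
(.node (.node (.node (.node (.node (.node (.node (.leaf 0x2b5facc934c7ef22e587defd620a)
 (.leaf 0))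
 (.leaf 0))
 (.leaf 0))
 (.leaf 0))
 (.leaf 0))
 (.leaf 0))
 (.node (.node (.node (.node (.node (.node (.leaf 0x2b5facc934c7ef22e587de5960fa)
 (.leaf 0))
 (.leaf 0))
 (.leaf 0))
 (.leaf 0))
 (.leaf 0))
 (.leaf 0)))

/-- the table for basis element 7 -/
def fixTab7 : ATree ℕ :=
(.node (.node (.node (.node (.node (.node (.node (.leaf 0x934888)
 (.leaf 0))
 (.leaf 0))
 (.leaf 0))
 (.leaf 0))
 (.leaf 0))
 (.leaf 0))
 (.leaf 0))

/-- the table for basis element 8 -/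
def fixTab8 : ATree ℕ :=
(.node (.node (.node (.node (.node (.node (.node (.leaf 0x65bbbe)
 (.leaf 0))
 (.leaf 0))
 (.leaf 0))
 (.leaf 0))
 (.leaf 0))
 (.leaf 0))
 (.leaf 0))

/-- the table for basis element 9 -/
def fixTab9 : ATree ℕ :=
(.node (.node (.node (.node (.node (.node (.node (.leaf 0x6e3008)
 (.leaf 0))
 (.leaf 0))
 (.leaf 0))
 (.leaf 0))
 (.leaf 0))
 (.leaf 0))
 (.leaf 0))

/-- the table for basis element 10 -/
def fixTab10 : ATree ℕ :=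
(.node (.node (.node (.node (.node (.node (.node (.leaf 0x6ca3e8)
 (.leaf 0))
 (.leaf 0))
 (.leaf 0))
 (.leaf 0))
 (.leaf 0))
 (.leaf 0))
 (.leaf 0))

/-- the tables in order -/
def fixTabs : List (ATree ℕ) := [fixTab0, fixTab1, fixTab2, fixTab3, fixTab4, fixTab5, fixTab6, fixTab7, fixTab8, fixTab9, fixTab10]

end CfsgLib.J4Cent
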