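import Cfsg.Agent.Lib.Presented.J4Cent.Coords
import Cfsg.Agent.Lib.Presented.J4Cent.FixData

/-!
The vectors fixed by the elementary abelian subgroup of order 2048 are zero and one further vector.
-/
set_option autoImplicit false
set_option maxRecDepth 20000
-- one kernel check at a time: memory
set_option Elab.async false

namespace CfsgLib.J4Cent

open CfsgLib.Presented CfsgLib.J4Rep

/-- the common fixed vector -/
def fixVec : ℕ := 0xffffff

/-- the vector with its component along the fixed vector removed -/
noncomputable def stripFix (v : ℕ) : ℕ := v ^^^ cond (v.testBit 0) fixVec 0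

/-- the combination of the displacements by the basis elements -/
noncomputable def moved : ℕ → ℕ → ℕ
  | 0, _ => 0
  | n + 1, v => moved n v ^^^ applyN (fixTabs.getD n (.leaf 0)) (actM (23 + n) v ^^^ v) 112

/-- the tables invert the displacements on the basis -/
noncomputable def fixInvOK : Bool :=
  (List.range 112).all fun i => Nat.beq (moved 11 (2 ^ i)) (stripFix (2 ^ i))

theorem fixInv_ok : fixInvOK = true := by decide +kernel

theorem moved_xor (u v : ℕ) : ∀ n, moved n (u ^^^ v) = moved n u ^^^ moved n v
  | 0 => by simp [moved]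
  | n + 1 => by
    simp only [moved]
    rw [moved_xor u v n, actM_xor,
      show actM (23 + n) u ^^^ actM (23 + n) v ^^^ (u ^^^ v) =
        (actM (23 + n) u ^^^ u) ^^^ (actM (23 + n) v ^^^ v) by ac_rfl, applyN_xor]
    ac_rfl

theorem moved_fixed {v : ℕ} (h : ∀ n < 11, actM (23 + n) v = v) : ∀ n ≤ 11, moved n v = 0
  | 0, _ => rfl
  | n + 1, hn => by
    simp only [moved]
    rw [moved_fixed h n (by omega), h n (by omega), Nat.xor_self, Nat.zero_xor]
    induction 112 with
    | zero => rfl
    | succ m ih => rw [applyN_succ, Nat.zero_testBit, if_neg Bool.false_ne_true, ih]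

theorem stripFix_xor (u v : ℕ) : stripFix (u ^^^ v) = stripFix u ^^^ stripFix v := by
  simp only [stripFix, Nat.testBit_xor]
  cases u.testBit 0 <;> cases v.testBit 0 <;>
    simp [Nat.xor_assoc, Nat.xor_comm, Nat.xor_left_comm]

theorem fixed_vectors {v : ℕ} (hv : v < 2 ^ 112) (h : ∀ n < 11, actM (23 + n) v = v) :
    v = 0 ∨ v = fixVec := by
  have hok := fixInv_ok
  simp only [fixInvOK, List.all_eq_true, List.mem_range] at hok
  have e : moved 11 v = stripFix v :=
    basis_ext (fun a b => moved_xor a b 11) stripFix_xor
      (fun i hi => Nat.eq_of_beq_eq_true (hok i hi)) 112 le_rfl v hv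
  rw [moved_fixed h 11 le_rfl] at e
  simp only [stripFix] at e
  have e' := Nat.xor_eq_zero_iff.1 e.symm
  cases hb : v.testBit 0 <;> rw [hb] at e'
  · exact Or.inl e'
  · exact Or.inr e'

end CfsgLib.J4Cent
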