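import Cfsg.Agent.Lib.Presented.J4Cent.GoodCheck
import Cfsg.Agent.Lib.Presented.J4Cent.Card

/-!
Soundness of the checkable condition, and the bound on the cosets in one orbit of the subgroup of
elements `0` and `1`.
-/
set_option autoImplicit false
set_option maxRecDepth 20000

namespace CfsgLib.J4Cent

open CfsgLib.Presented CfsgLib.J4Rep CfsgLib.J4Mult Cfsg.Spor

/-- the allowed elements -/
noncomputable def goodSet (s : GoodSpec) : Finset J4 :=
  @List.toFinset J4 (Classical.decEq J4) (((List.range 2048).filter fun b => s.mask.testBit b).map aElt)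

theorem mem_goodSet {s : GoodSpec} {b : ℕ} (hb : b < 2048) (hm : s.mask.testBit b = true) :
    aElt b ∈ goodSet s := by
  letI := Classical.decEq J4
  simp only [goodSet, List.mem_toFinset, List.mem_map, List.mem_filter, List.mem_range]
  exact ⟨b, ⟨hb, hm⟩, rfl⟩

theorem card_goodSet_le (s : GoodSpec) :
    (goodSet s).card ≤ ((List.range 2048).filter fun b => s.mask.testBit b).length := by
  letI := Classical.decEq J4
  simp only [goodSet]
  exact (List.toFinset_card_le _).trans_eq (List.length_map _)

/-- an element is described by a table -/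
def HasTab (T : ATree ℕ) (g : J4) : Prop := ∀ v : Vec112, (rep g v).1 = applyN T v.1 112

theorem el_mem_aSub {n : ℕ} (hn : n < 11) : el (23 + n) ∈ aSub :=
  el_mem_genBy (List.mem_map.2 ⟨n, List.mem_range.2 hn, rfl⟩)

theorem good_sound (hs : IsSimpleGroup J4) {s : GoodSpec} (hok : goodOK s = true) {g : J4}
    (hrun : HasTab s.tab g) {b : ℕ} (hb : b < 2048) (horb : orbMask.testBit b = true)
    (hc : ∀ a ∈ aSub, Commute (aElt b) (g * a * g⁻¹)) :
    s.mask.testBit b = true := by
  by_contra hm
  have hleaf := leaf_of_goodOK hok hb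
  simp only [goodOK, Vec.force_eq, Bool.and_eq_true, List.all_eq_true] at hok
  obtain ⟨htests, -⟩ := hok
  simp only [leafOK, horb, Bool.not_true, Bool.false_or, Bool.eq_false_iff.2 hm] at hleaf
  have himg : ∀ v : Vec112, (rep (aElt b) v).1 = imgA b 11 v.1 := rep_aPart b 11 le_rfl
  have hfv : fixVec < 2 ^ 112 := by norm_num [fixVec]
  let F : Vec112 := ⟨fixVec, hfv⟩
  have hgF : (rep g F).1 = applyN s.tab fixVec 112 := hrun F
  cases hbeq : Nat.beq (imgA b 11 (applyN s.tab fixVec 112)) (applyN s.tab fixVec 112) <;>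
    rw [hbeq] at hleaf
  · -- the moved vector must be fixed by the whole abelian subgroup
    let W : Vec112 := rep g⁻¹ (rep (aElt b) (rep g F))
    have hWfix : ∀ n < 11, actM (23 + n) W.1 = W.1 := by
      intro n hn
      rw [← rep_el_val (by omega) W]
      have e := hc _ (el_mem_aSub hn)
      have hF : rep (el (23 + n)) F = F := Subtype.ext (by
        rw [rep_el_val (by omega)]
        exact fixVec_fixed n hn)
      have e2 : el (23 + n) * (g⁻¹ * aElt b * g) = g⁻¹ * aElt b * g * el (23 + n) := by
        calc el (23 + n) * (g⁻¹ * aElt b * g)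
            = g⁻¹ * (g * el (23 + n) * g⁻¹ * aElt b) * g := by group
          _ = g⁻¹ * (aElt b * (g * el (23 + n) * g⁻¹)) * g := by rw [e.eq]
          _ = g⁻¹ * aElt b * g * el (23 + n) := by group
      have hW : W = rep (g⁻¹ * aElt b * g) F := by
        simp only [W, map_mul, Equiv.Perm.mul_apply]
      rw [hW, ← Equiv.Perm.mul_apply, ← map_mul, e2, map_mul, Equiv.Perm.mul_apply, hF]
    have hval : imgA b 11 (applyN s.tab fixVec 112) = (rep g W).1 := by
      simp only [W]
      rw [← Equiv.Perm.mul_apply, ← map_mul, mul_inv_cancel, map_one, Equiv.Perm.one_apply, himg, hgF]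
    rcases fixed_vectors W.2 hWfix with h0 | h0
    · rw [hrun W, h0, applyN_zero_vec] at hval
      rw [hval] at hleaf
      simp at hleaf
    · rw [show W = F from Subtype.ext h0, hgF] at hval
      rw [hval, Nat.beq_refl] at hbeq
      exact Bool.false_ne_true hbeq.symm
  · -- the witness vector
    simp only [List.any_map, List.any_eq_true] at hleaf
    obtain ⟨⟨n, t, B⟩, ht, hsep⟩ := hleaf
    have hB := htests _ ht
    simp only [conjTabOK, Bool.and_eq_true, List.all_eq_true, List.mem_range, Nat.blt_eq] at hB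
    obtain ⟨⟨hidx, htest⟩, hB⟩ := hB
    let q : Vec112 := ⟨t, htest⟩
    have hconj : ∀ v : Vec112, (rep (g * el (23 + n) * g⁻¹) v).1 = applyN B v.1 112 := by
      intro v
      obtain ⟨u, rfl⟩ := (rep g).surjective v
      rw [← Equiv.Perm.mul_apply, ← map_mul, inv_mul_cancel_right, map_mul, Equiv.Perm.mul_apply, hrun,
        rep_el_val (by omega), hrun]
      symm
      exact basis_ext (f := fun x => applyN B (applyN s.tab x 112) 112)
        (g := fun x => applyN s.tab (actM (23 + n) x) 112)
        (fun x y => by simp only [applyN_xor]) (fun x y => by simp only [actM_xor, applyN_xor])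
        (fun i hi => Nat.eq_of_beq_eq_true (hB i hi)) 112 le_rfl _ u.2
    have e := (hc _ (el_mem_aSub hidx)).eq
    have e1 : (rep (aElt b * (g * el (23 + n) * g⁻¹)) (rep g q)).1 =
        (rep (g * el (23 + n) * g⁻¹ * aElt b) (rep g q)).1 := by rw [e]
    rw [map_mul _ (aElt b), map_mul _ _ (aElt b), Equiv.Perm.mul_apply, Equiv.Perm.mul_apply,
      ← Equiv.Perm.mul_apply (rep (g * el (23 + n) * g⁻¹)) (rep g), ← map_mul, inv_mul_cancel_right, map_mul,
      Equiv.Perm.mul_apply] at e1
    rw [himg, hrun, rep_el_val (by omega), hconj, himg, hrun] at e1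
    simp only [q] at e1
    simp [separates, e1] at hsep
where
  fixVec_fixed : ∀ n < 11, actM (23 + n) fixVec = fixVec := fun n hn => by
    have h := fixVec_ok
    simp only [List.all_eq_true, List.mem_range] at h
    exact Nat.eq_of_beq_eq_true (h n hn)
  fixVec_ok : ((List.range 11).all fun n => Nat.beq (actM (23 + n) fixVec) fixVec) = true := by
    decide +kernel
  applyN_zero_vec {T : ATree ℕ} : applyN T 0 112 = 0 := by simpa using applyN_xor T 0 0 112

/-- the orbit is closed under the two generators -/
def orbClosedOK : Bool :=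
  orbBits.all fun b => ([0, 1] : List ℕ).all fun g => orbMask.testBit (combo (rowsOf g) b 11)

theorem orbClosed_ok : orbClosedOK = true := by decide +kernel

theorem combo_lt (g b : ℕ) : combo (rowsOf g) b 11 < 2048 := by
  have hrow : ∀ n, (rowsOf g).getD n 0 < 2 ^ 11 := by
    intro n
    by_cases hn : n < (rowsOf g).length
    · rw [List.getD_eq_getElem _ _ hn]
      have : ∀ l ∈ [rowsX, rowsY], ∀ x ∈ l, x < 2 ^ 11 := by decide +kernel
      refine this _ ?_ _ (List.getElem_mem hn)
      simp only [rowsOf]
      split <;> simp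
    · rw [List.getD_eq_default _ _ (by omega)]
      exact Nat.two_pow_pos _
  have key : ∀ n, combo (rowsOf g) b n < 2 ^ 11 := by
    intro n
    induction n with
    | zero => exact Nat.two_pow_pos _
    | succ n ih =>
      simp only [combo]
      cases b.testBit n
      · exact ih
      · exact Nat.xor_lt_two_pow ih (hrow n)
  exact key 11

theorem conj_orbit [Finite J4] (hs : IsSimpleGroup J4) {m : J4} (hm : m ∈ mSub) :
    ∀ b < 2048, orbMask.testBit b = true →
      ∃ c < 2048, orbMask.testBit c = true ∧ m * aElt b * m⁻¹ = aElt c := by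
  rw [mSub, genBy, ← Subgroup.mem_toSubmonoid, Subgroup.closure_toSubmonoid_of_finite] at hm
  induction hm using Submonoid.closure_induction with
  | mem x hx =>
    obtain ⟨k, hk, rfl⟩ := hx
    intro b _ hb
    have hk2 : k < 2 := by
      simp only [List.mem_cons, List.not_mem_nil, or_false, Set.mem_setOf_eq] at hk
      omega
    refine ⟨_, combo_lt k b, ?_, conj_aElt hs hk2 b⟩
    have h := orbClosed_ok
    simp only [orbClosedOK, List.all_eq_true] at h
    exact h b (mem_orbBits hb) k hk
  | one => exact fun b hb ho => ⟨b, hb, ho, by simp⟩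
  | mul x y _ _ ihx ihy =>
    intro b hb ho
    obtain ⟨c, hc, hoc, ec⟩ := ihy b hb ho
    obtain ⟨d, hd, hod, ed⟩ := ihx c hc hoc
    exact ⟨d, hd, hod, by rw [← ed, ← ec]; group⟩

/-- conjugates of element `4` moving a coset into the distinguished set are allowed -/
theorem good_of_mem [Finite J4] (hs : IsSimpleGroup J4) {s : GoodSpec} (hok : goodOK s = true) {g : J4}
    (hrun : HasTab s.tab g) {m : J4}
    (hm : m ∈ mSub) (hT : m • (QuotientGroup.mk g : J4 ⧸ hSub) ∈ tSet) :
    m⁻¹ * el 4 * m ∈ goodSet s := by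
  obtain ⟨c, hc, hoc, ec⟩ := conj_orbit hs (inv_mem hm) zBits (by decide) (by decide +kernel)
  rw [aElt_zBits hs, inv_inv] at ec
  rw [ec]
  refine mem_goodSet hc (good_sound hs hok hrun hc hoc fun a ha => ?_)
  rw [← ec]
  have e := (hT (m * g) rfl a ha).eq
  show _ = _
  calc m⁻¹ * el 4 * m * (g * a * g⁻¹) = m⁻¹ * (el 4 * (m * g * a * (m * g)⁻¹)) * m := by group
    _ = m⁻¹ * (m * g * a * (m * g)⁻¹ * el 4) * m := by rw [e]
    _ = g * a * g⁻¹ * (m⁻¹ * el 4 * m) := by group

end CfsgLib.J4Cent
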