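import Cfsg.Agent.Lib.Presented.J4Cent.FixSpace

/-!
A checkable condition saying which elements of the orbit of 1771 can commute with all conjugates of the
elementary abelian subgroup of order 2048 by a given element.
-/
set_option autoImplicit false
set_option maxRecDepth 20000

namespace CfsgLib.J4Cent

open CfsgLib.Presented CfsgLib.J4Rep

/-- data for one conjugating element: its table, test triples (basis index, vector, table of the conjugate of
the basis element) and the allowed coordinates -/
structure GoodSpec where
  /-- the table of the conjugating element -/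
  tab : ATree ℕ
  /-- triples of a basis index, a vector and a table -/
  tests : List (ℕ × ℕ × ATree ℕ)
  /-- the allowed coordinates, as a mask -/
  mask : ℕ

/-- the images of a vector under all coordinate combinations pass a test -/
noncomputable def scan (f : ℕ → ℕ → Bool) : ℕ → ℕ → ℕ → Bool
  | 0, b, v => f b v
  | m + 1, b, v => scan f m b v && Vec.force (actM (23 + m) v) fun u => scan f m (b + 2 ^ m) u

/-- pass the prepared test triples on -/
noncomputable def withTests (G : ATree ℕ) :
    List (ℕ × ℕ × ATree ℕ) → (List (ATree ℕ × ℕ × ℕ) → Bool) → Bool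
  | [], k => k []
  | (n, t, B) :: l, k =>
    Vec.force (applyN G (actM (23 + n) t) 112) fun p =>
      Vec.force (applyN G t 112) fun q => withTests G l fun r => k ((B, p, q) :: r)

/-- a test triple shows that two elements do not commute -/
noncomputable def separates (b : ℕ) (e : ATree ℕ × ℕ × ℕ) : Bool :=
  !(Nat.beq (imgA b 11 e.2.1) (applyN e.1 (imgA b 11 e.2.2) 112))

/-- the test at one coordinate combination, given the precomputed vectors -/
noncomputable def leafOK (s : GoodSpec) (gv : ℕ) (es : List (ATree ℕ × ℕ × ℕ)) (b v : ℕ) : Bool :=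
  !(orbMask.testBit b) || s.mask.testBit b ||
    Bool.rec (motive := fun _ => Bool) (!(Nat.beq v 0)) (es.any (separates b)) (Nat.beq v gv)

/-- the table of a conjugate of a basis element -/
noncomputable def conjTabOK (G : ATree ℕ) (e : ℕ × ℕ × ATree ℕ) : Bool :=
  Nat.blt e.1 11 && Nat.blt e.2.1 (2 ^ 112) &&
    (List.range 112).all fun i =>
      Nat.beq (applyN e.2.2 (applyN G (2 ^ i) 112) 112) (applyN G (actM (23 + e.1) (2 ^ i)) 112)

/-- the condition on the data -/
noncomputable def goodOK (s : GoodSpec) : Bool :=
  (s.tests.all (conjTabOK s.tab)) &&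
    Vec.force (applyN s.tab fixVec 112) fun gv =>
      withTests s.tab s.tests fun es => scan (leafOK s gv es) 11 0 gv

theorem withTests_eq (G : ATree ℕ) : ∀ (l : List (ℕ × ℕ × ATree ℕ)) (k : List (ATree ℕ × ℕ × ℕ) → Bool),
    withTests G l k =
      k (l.map fun t => (t.2.2, applyN G (actM (23 + t.1) t.2.1) 112, applyN G t.2.1 112))
  | [], _ => rfl
  | (n, t, B) :: l, k => by
    simp only [withTests, Vec.force_eq, withTests_eq G l, List.map_cons]

theorem imgA_congr {b c : ℕ} : ∀ n, (∀ i < n, b.testBit i = c.testBit i) → ∀ v, imgA b n v = imgA c n v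
  | 0, _, _ => rfl
  | n + 1, h, v => by
    simp only [imgA, Vec.force_eq, h n (Nat.lt_succ_self n)]
    exact imgA_congr n (fun i hi => h i (Nat.lt_succ_of_lt hi)) _

theorem scan_spec (f : ℕ → ℕ → Bool) : ∀ m b v, scan f m b v = true →
    ∀ c < 2 ^ m, f (b + c) (imgA c m v) = true
  | 0, b, v, h, c, hc => by
    obtain rfl : c = 0 := by simpa using hc
    simpa [scan, imgA] using h
  | m + 1, b, v, h, c, hc => by
    simp only [scan, Vec.force_eq, Bool.and_eq_true] at h
    simp only [imgA, Vec.force_eq]
    rw [pow_succ] at hc
    by_cases hlt : c < 2 ^ m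
    · rw [Nat.testBit_lt_two_pow hlt, cond_false]
      exact scan_spec f m b v h.1 c hlt
    · have hc' : c - 2 ^ m < 2 ^ m := by omega
      have e : c = 2 ^ m + (c - 2 ^ m) := by omega
      have hb : c.testBit m = true := by
        rw [e, Nat.testBit_two_pow_add_eq, Nat.testBit_lt_two_pow hc']
        rfl
      rw [hb, cond_true, imgA_congr m (c := c - 2 ^ m) fun i hi => by
        conv_lhs => rw [e]
        exact Nat.testBit_two_pow_add_gt hi _]
      have := scan_spec f m (b + 2 ^ m) _ h.2 _ hc'
      rwa [show b + 2 ^ m + (c - 2 ^ m) = b + c by omega] at this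

theorem leaf_of_goodOK {s : GoodSpec} (h : goodOK s = true) {b : ℕ} (hb : b < 2 ^ 11) :
    leafOK s (applyN s.tab fixVec 112)
      (s.tests.map fun t => (t.2.2, applyN s.tab (actM (23 + t.1) t.2.1) 112, applyN s.tab t.2.1 112))
      b (imgA b 11 (applyN s.tab fixVec 112)) = true := by
  simp only [goodOK, Vec.force_eq, withTests_eq, Bool.and_eq_true] at h
  simpa using scan_spec _ 11 0 _ h.2 b hb

end CfsgLib.J4Cent
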