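import Cfsg.Agent.Lib.Presented.J4Cent.Card

/-!
The subgroup of elements `0`, `1`, `4` is the one generated by the images of `x`, `y` and the cube word.
-/
set_option autoImplicit false
set_option maxRecDepth 20000

namespace CfsgLib.J4Cent

open CfsgLib.Presented CfsgLib.Presented.J4M24 CfsgLib.J4Mult CfsgLib.J4Rep Cfsg.Spor

theorem hSub_eq :
    hSub = ((Subgroup.closure ({J4.x, J4.y,
      (J4.y * ((J4.y * J4.x) ^ 4 * J4.y⁻¹ * J4.x)⁻¹ * J4.t * ((J4.y * J4.x) ^ 4 * J4.y⁻¹ * J4.x)) ^ 3} :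
        Set (FreeGroup J4.Gen))).map (PresentedGroup.mk (coxRelators J4.edges ∪ {r | r ∈ J4.extra}))) := by
  have e0 : el 0 = PresentedGroup.mk _ J4.x := rfl
  have e1 : el 1 = PresentedGroup.mk _ J4.y := rfl
  have hx : (PresentedGroup.mk (coxRelators J4.edges ∪ {r | r ∈ J4.extra}) J4.x)⁻¹ =
      PresentedGroup.mk _ J4.x := inv_eq_of_mul_eq_one_right j_rels.1
  have e4 : el 4 = PresentedGroup.mk _ ((J4.y * ((J4.y * J4.x) ^ 4 * J4.y⁻¹ * J4.x)⁻¹ * J4.t *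
      ((J4.y * J4.x) ^ 4 * J4.y⁻¹ * J4.x)) ^ 3) := by
    have h : el 4 = evW (fun k => [ev4J 0, ev4J 1, ev4J 2, ev4J 3].getD k 1) (prog.getD 0 []) := rfl
    rw [h]
    generalize hX : J4.x = a at hx ⊢
    generalize hY : J4.y = b
    simp [prog, evW, ev4J, ev4, hX, hY, hx, pow_succ, mul_assoc, mul_inv_rev]
  rw [hSub, genBy, MonoidHom.map_closure]
  congr 1
  ext u
  simp only [Set.mem_image, Set.mem_setOf_eq, List.mem_cons, List.not_mem_nil, or_false,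
    Set.mem_insert_iff, Set.mem_singleton_iff]
  constructor
  · rintro ⟨k, rfl | rfl | rfl, rfl⟩
    · exact ⟨_, Or.inl rfl, e0.symm⟩
    · exact ⟨_, Or.inr (Or.inl rfl), e1.symm⟩
    · exact ⟨_, Or.inr (Or.inr rfl), e4.symm⟩
  · rintro ⟨v, rfl | rfl | rfl, rfl⟩
    · exact ⟨0, Or.inl rfl, e0⟩
    · exact ⟨1, Or.inr (Or.inl rfl), e1⟩
    · exact ⟨4, Or.inr (Or.inr rfl), e4⟩

end CfsgLib.J4Cent
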