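import Cfsg.Agent.Lib.Presented.J4Cent.Elements
import Cfsg.Agent.Lib.Presented.J4Cent.Extraspecial

/-!
The two normal subgroups of the group generated by the named centralising elements.
-/
set_option autoImplicit false
set_option maxRecDepth 20000

namespace CfsgLib.J4Cent

open CfsgLib.Presented CfsgLib.J4Rep CfsgLib.J4Mult Cfsg.Spor
open scoped Pointwise

/-- letters of the extraspecial subgroup -/
def qLetters : List ℕ := [4, 10, 11, 12, 13, 14, 15, 16, 17, 18, 19, 20, 21]

/-- letters of the kernel -/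
def nLetters : List ℕ := 22 :: qLetters

/-- letters of the whole group -/
def kLetters : List ℕ := 1 :: 6 :: nLetters

/-- conjugation checks: `g q = w g` with `w` in the given letters -/
def conjCheck (gs : List ℕ) (ls : List ℕ) : Bool :=
  gs.all fun g => ls.all fun q => (q == 4 && eqs.contains ([4, g], [g, 4])) ||
    eqs.any fun p => p.1 == [g, q] && (p.2.getLast? == some g && p.2.dropLast.all fun a => ls.contains a)

theorem conjCheck_n : conjCheck [1, 6] (qLetters ++ [22]) = true := by decide +kernel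

theorem conjCheck_q : conjCheck [1, 6, 22] qLetters = true := by decide +kernel

/-- the subgroup generated by some named elements -/
noncomputable def genBy (ls : List ℕ) : Subgroup J4 := Subgroup.closure (el '' {k | k ∈ ls})

theorem el_mem_genBy {ls : List ℕ} {k : ℕ} (h : k ∈ ls) : el k ∈ genBy ls :=
  Subgroup.subset_closure ⟨k, h, rfl⟩

theorem evW_mem_genBy {ls : List ℕ} {w : List ℕ} (h : ∀ a ∈ w, a ∈ ls) : evW el w ∈ genBy ls :=
  list_prod_mem fun x hx => by
    obtain ⟨a, ha, rfl⟩ := List.mem_map.1 hx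
    exact el_mem_genBy (h a ha)

theorem genBy_mono {ls ls' : List ℕ} (h : ∀ a ∈ ls, a ∈ ls') : genBy ls ≤ genBy ls' :=
  Subgroup.closure_mono (Set.image_mono h)

theorem conjCheck_sound (hs : IsSimpleGroup J4) [Finite J4] {gs ls : List ℕ}
    (h : conjCheck gs ls = true) {g : ℕ} (hg : g ∈ gs) :
    el g ∈ Subgroup.normalizer (genBy ls : Set J4) := by
  have hle : (genBy ls).map (MulAut.conj (el g)).toMonoidHom ≤ genBy ls := by
    rw [genBy, MonoidHom.map_closure, Subgroup.closure_le]
    rintro _ ⟨_, ⟨q, hq, rfl⟩, rfl⟩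
    simp only [MulEquiv.coe_toMonoidHom, MulAut.conj_apply]
    have h' := List.all_eq_true.1 (List.all_eq_true.1 h g hg) q hq
    simp only [Bool.or_eq_true, Bool.and_eq_true, List.contains_iff_mem, List.any_eq_true,
      beq_iff_eq, List.all_eq_true] at h'
    rcases h' with ⟨rfl, hm⟩ | ⟨p, hp, hp1, hlast, hletters⟩
    · have e := el_eq hs hm
      simp only [evW_cons, evW_nil, mul_one] at e
      rw [← e, mul_inv_cancel_right]
      exact el_mem_genBy hq
    · have e := el_eq hs hp
      rw [hp1, ← List.dropLast_append_getLast? g hlast, evW_append] at e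
      simp only [evW_cons, evW_nil, mul_one] at e
      rw [e, mul_inv_cancel_right]
      exact evW_mem_genBy hletters
  rw [Subgroup.mem_normalizer_iff_map_conj_eq]
  exact Subgroup.eq_of_le_of_card_ge hle
    (le_of_eq (Subgroup.card_map_of_injective (MulAut.conj (el g)).injective).symm)

/-- the first halves of the symplectic family -/
noncomputable def aJ (i : Fin 6) : J4 := el (10 + i.1)
/-- the second halves of the symplectic family -/
noncomputable def bJ (i : Fin 6) : J4 := el (16 + i.1)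

theorem moves : (([4, 22] : List ℕ).all fun k =>
    (List.range 112).any fun i => !(actM k (2 ^ i) == 2 ^ i)) = true := by decide +kernel

theorem el_ne_one {k : ℕ} (hk : k ∈ ([4, 22] : List ℕ)) : el k ≠ 1 := by
  intro e
  have h := List.all_eq_true.1 moves k hk
  simp only [List.any_eq_true, List.mem_range, Bool.not_eq_true', beq_eq_false_iff_ne] at h
  obtain ⟨i, hi, hne⟩ := h
  refine hne ?_
  have hlt : k < 34 := by
    simp only [List.mem_cons, List.not_mem_nil, or_false] at hk
    omega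
  have hv := rep_el_val hlt ⟨2 ^ i, Nat.pow_lt_pow_right (by norm_num) hi⟩
  rw [e, map_one] at hv
  exact hv.symm

theorem mem_sq : ∀ i : Fin 6, ([10 + i.1, 10 + i.1], ([] : List ℕ)) ∈ eqs ∧
    ([16 + i.1, 16 + i.1], ([] : List ℕ)) ∈ eqs ∧
    ([4, 10 + i.1], [10 + i.1, 4]) ∈ eqs ∧ ([4, 16 + i.1], [16 + i.1, 4]) ∈ eqs := by decide +kernel

theorem mem_comm : ∀ i j : Fin 6, i < j → ([10 + i.1, 10 + j.1], [10 + j.1, 10 + i.1]) ∈ eqs ∧
    ([16 + i.1, 16 + j.1], [16 + j.1, 16 + i.1]) ∈ eqs := by decide +kernel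

theorem mem_pair : ∀ i j : Fin 6,
    ([10 + i.1, 16 + j.1], [16 + j.1, 10 + i.1] ++ if i = j then [4] else []) ∈ eqs := by
  decide +kernel

theorem mem_misc : ([4, 4], ([] : List ℕ)) ∈ eqs ∧ ([22, 22, 22], ([] : List ℕ)) ∈ eqs ∧
    ([4, 22], [22, 4]) ∈ eqs ∧ ([4, 1], [1, 4]) ∈ eqs ∧ ([4, 6], [6, 4]) ∈ eqs := by decide +kernel

theorem symplectic (hs : IsSimpleGroup J4) : Symplectic (el 4) aJ bJ := by
  have two : ∀ {u v : ℕ} {r : List ℕ}, ([u, v], r) ∈ eqs → el u * el v = evW el r := fun h => by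
    have e := el_eq hs h
    simpa using e
  have c : ∀ {u v : ℕ}, ([u, v], [v, u]) ∈ eqs → el u * el v = el v * el u := fun h => by
    simpa using two h
  refine ⟨by simpa using two mem_misc.1, el_ne_one (by simp), fun i => ?_, fun i => ?_, fun i j => ?_,
    fun i j => ?_, fun i => c (mem_sq i).2.2.1, fun i => c (mem_sq i).2.2.2, fun i j => ?_⟩
  · simpa [aJ] using two (mem_sq i).1
  · simpa [bJ] using two (mem_sq i).2.1
  · rcases lt_trichotomy i j with h | rfl | h
    · exact c (mem_comm i j h).1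
    · rfl
    · exact (c (mem_comm j i h).1).symm
  · rcases lt_trichotomy i j with h | rfl | h
    · exact c (mem_comm i j h).2
    · rfl
    · exact (c (mem_comm j i h).2).symm
  · have e := two (mem_pair i j)
    by_cases hij : i = j
    · rw [if_pos hij] at e ⊢
      simpa [aJ, bJ, mul_assoc] using e
    · rw [if_neg hij] at e ⊢
      simpa [aJ, bJ] using e

theorem qGroup_eq : qGroup (el 4) aJ bJ = genBy qLetters := by
  rw [qGroup, genBy]
  congr 1
  ext x
  constructor
  · rintro ((rfl | ⟨i, rfl⟩) | ⟨i, rfl⟩)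
    · exact ⟨4, by simp [qLetters], rfl⟩
    · exact ⟨10 + i.1, by revert i; decide, rfl⟩
    · exact ⟨16 + i.1, by revert i; decide, rfl⟩
  · rintro ⟨k, hk, rfl⟩
    simp only [qLetters, List.mem_cons, List.not_mem_nil, or_false, Set.mem_setOf_eq] at hk
    rcases hk with rfl | rfl | rfl | rfl | rfl | rfl | rfl | rfl | rfl | rfl | rfl | rfl | rfl
    · exact Or.inl (Or.inl rfl)
    · exact Or.inl (Or.inr ⟨0, rfl⟩)
    · exact Or.inl (Or.inr ⟨1, rfl⟩)
    · exact Or.inl (Or.inr ⟨2, rfl⟩)
    · exact Or.inl (Or.inr ⟨3, rfl⟩)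
    · exact Or.inl (Or.inr ⟨4, rfl⟩)
    · exact Or.inl (Or.inr ⟨5, rfl⟩)
    · exact Or.inr ⟨0, rfl⟩
    · exact Or.inr ⟨1, rfl⟩
    · exact Or.inr ⟨2, rfl⟩
    · exact Or.inr ⟨3, rfl⟩
    · exact Or.inr ⟨4, rfl⟩
    · exact Or.inr ⟨5, rfl⟩

variable [Finite J4]

theorem card_qSub (hs : IsSimpleGroup J4) :
    Nat.card (genBy qLetters) = 2 ^ 13 ∧ Cfsg.IsExtraspecial 2 (genBy qLetters) := by
  rw [← qGroup_eq]
  exact (symplectic hs).isExtraspecial

theorem genBy_n : genBy nLetters = genBy qLetters ⊔ Subgroup.zpowers (el 22) := by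
  rw [genBy, genBy, Subgroup.zpowers_eq_closure, ← Subgroup.closure_union]
  congr 1
  ext x
  simp only [nLetters, List.mem_cons, Set.mem_image, Set.mem_setOf_eq, Set.mem_union, Set.mem_singleton_iff]
  constructor
  · rintro ⟨k, rfl | hk, rfl⟩
    · exact Or.inr rfl
    · exact Or.inl ⟨k, hk, rfl⟩
  · rintro (⟨k, hk, rfl⟩ | rfl)
    · exact ⟨k, Or.inr hk, rfl⟩
    · exact ⟨22, Or.inl rfl, rfl⟩

theorem card_nSub (hs : IsSimpleGroup J4) : Nat.card (genBy nLetters) = 3 * 2 ^ 13 := by
  have h3 : orderOf (el 22) = 3 := by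
    have : Fact (Nat.Prime 3) := ⟨Nat.prime_three⟩
    refine orderOf_eq_prime ?_ (el_ne_one (by simp))
    have e := el_eq hs mem_misc.2.1
    simpa [pow_succ, mul_assoc] using e
  refine le_antisymm ?_ (Nat.le_of_dvd Nat.card_pos (Nat.Coprime.mul_dvd_of_dvd_of_dvd (by norm_num) ?_ ?_))
  · rw [genBy_n]
    refine (card_sup_le _ _ ?_).trans ?_
    · rw [Subgroup.zpowers_le]
      exact conjCheck_sound hs conjCheck_q (by simp)
    · rw [(card_qSub hs).1, Nat.card_zpowers, h3, mul_comm]
  · rw [← h3, ← Nat.card_zpowers]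
    exact Subgroup.card_dvd_of_le (genBy_n ▸ le_sup_right)
  · rw [← (card_qSub hs).1]
    exact Subgroup.card_dvd_of_le (genBy_n ▸ le_sup_left)

theorem normalizer_genBy (hs : IsSimpleGroup J4) :
    genBy kLetters ≤ Subgroup.normalizer (genBy qLetters : Set J4) ∧
      genBy kLetters ≤ Subgroup.normalizer (genBy nLetters : Set J4) := by
  have e : genBy nLetters = genBy (qLetters ++ [22]) :=
    le_antisymm (genBy_mono (by decide)) (genBy_mono (by decide))
  constructor
  · rw [genBy, Subgroup.closure_le]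
    rintro _ ⟨k, hk, rfl⟩
    rcases List.mem_cons.1 hk with rfl | hk
    · exact conjCheck_sound hs conjCheck_q (by simp)
    rcases List.mem_cons.1 hk with rfl | hk
    · exact conjCheck_sound hs conjCheck_q (by simp)
    rcases List.mem_cons.1 hk with rfl | hk
    · exact conjCheck_sound hs conjCheck_q (by simp)
    exact Subgroup.le_normalizer (el_mem_genBy hk)
  · rw [genBy, Subgroup.closure_le, e]
    rintro _ ⟨k, hk, rfl⟩
    rcases List.mem_cons.1 hk with rfl | hk
    · exact conjCheck_sound hs conjCheck_n (by simp)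
    rcases List.mem_cons.1 hk with rfl | hk
    · exact conjCheck_sound hs conjCheck_n (by simp)
    exact Subgroup.le_normalizer (e ▸ el_mem_genBy hk)

theorem genBy_le_centralizer (hs : IsSimpleGroup J4) :
    genBy kLetters ≤ Subgroup.centralizer {el 4} := by
  rw [genBy, Subgroup.closure_le]
  rintro _ ⟨k, hk, rfl⟩
  rw [SetLike.mem_coe, Subgroup.mem_centralizer_singleton_iff]
  have hall : ∀ k ∈ kLetters, k = 4 ∨ ([4, k], [k, 4]) ∈ eqs := by decide +kernel
  have h := hall k hk
  rcases h with rfl | h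
  · rfl
  · simpa using (el_eq hs h).symm

end CfsgLib.J4Cent
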