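import Cfsg.Agent.Lib.Presented.J4Cent.RepTab0
import Cfsg.Agent.Lib.Presented.J4Cent.RepTab1
import Cfsg.Agent.Lib.J4DCE.TopData
import Cfsg.Agent.Lib.J4DCE.Stab

/-! Kernel checks linking the tables of the coset representatives with the named points of the enumeration. -/
set_option autoImplicit false
set_option maxRecDepth 20000
-- one kernel check at a time: memory
set_option Elab.async false

namespace CfsgLib.J4Cent.Reps

open CfsgLib.Presented CfsgLib.Presented.J4M24 CfsgLib.J4Rep Cfsg

/-- the table of the first point is the identity -/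
noncomputable def tabBaseOK : Bool :=
  (List.range 112).all fun i => Nat.beq (applyN (tabOf 0) (2 ^ i) 112) (2 ^ i)

/-- the parent and the letter of a named point -/
noncomputable def linkOK (e : ℕ × ℕ × List ℕ) : Bool :=
  Nat.beq (J4DCE.Top.cert.facts.get (J4DCE.Top.cert.par.get 13 e.1)).i e.2.1 && Nat.blt e.2.1 e.1 &&
    Nat.beq (J4DCE.tImg (J4DCE.pk (evW (ev2 J4DCE.mX J4DCE.mY) e.2.2 : M24).1) J4DCE.Top.cert.T0)
      (J4DCE.Top.cert.facts.get (J4DCE.Top.cert.par.get 13 e.1)).r

/-- the parents are named points -/
def parentsOK : Bool :=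
  steps.all fun e => e.2.1 == 0 || steps.any fun e' => e'.1 == e.2.1

theorem tabStep_ok : steps.all tabStepOK = true := by
  have h : steps = steps.take 5 ++ ((steps.drop 5).take 5 ++ ((steps.drop 10).take 5 ++ steps.drop 15)) := rfl
  rw [h, List.all_append, List.all_append, List.all_append, tabStep_ok0, tabStep_ok1, tabStep_ok2, tabStep_ok3]
  rfl

theorem tabBase_ok : tabBaseOK = true := by decide +kernel

theorem link_ok : steps.all linkOK = true := by decide +kernel

theorem parents_ok : parentsOK = true := by decide +kernel

end CfsgLib.J4Cent.Reps
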