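import Cfsg.Agent.Lib.Presented.J4Cent.RepData

/-! Kernel checks on the data of the coset representatives. -/
set_option autoImplicit false
set_option maxRecDepth 20000
-- one kernel check at a time: memory
set_option Elab.async false

namespace CfsgLib.J4Cent.Reps

theorem good0_ok : goodOK spec0 = true := by decide +kernel

theorem good1_ok : goodOK spec1 = true := by decide +kernel

theorem good10_ok : goodOK spec10 = true := by decide +kernel

theorem good4_ok : goodOK spec4 = true := by decide +kernel

theorem good17_ok : goodOK spec17 = true := by decide +kernel

end CfsgLib.J4Cent.Reps
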