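import Cfsg.Agent.Lib.Presented.J4Cent.RepData

/-! Kernel checks on the data of the coset representatives. -/
set_option autoImplicit false
set_option maxRecDepth 20000
-- one kernel check at a time: memory
set_option Elab.async false

namespace CfsgLib.J4Cent.Reps

theorem good8_ok : goodOK spec8 = true := by decide +kernel

theorem good3_ok : goodOK spec3 = true := by decide +kernel

theorem good13_ok : goodOK spec13 = true := by decide +kernel

theorem good6_ok : goodOK spec6 = true := by decide +kernel

theorem good18_ok : goodOK spec18 = true := by decide +kernel

end CfsgLib.J4Cent.Reps
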