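import Cfsg.Agent.Lib.Presented.J4Cent.RepData

/-! Kernel checks on the data of the coset representatives. -/
set_option autoImplicit false
set_option maxRecDepth 20000
-- one kernel check at a time: memory
set_option Elab.async false

namespace CfsgLib.J4Cent.Reps

theorem good12_ok : goodOK spec12 = true := by decide +kernel

theorem good7_ok : goodOK spec7 = true := by decide +kernel

theorem good20_ok : goodOK spec20 = true := by decide +kernel

theorem good15_ok : goodOK spec15 = true := by decide +kernel

theorem good21_ok : goodOK spec21 = true := by decide +kernel

end CfsgLib.J4Cent.Reps
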