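import Cfsg.Agent.Lib.Presented.J4Cent.RepTabDef

/-! Kernel check on the tables of some of the named points. -/
set_option autoImplicit false
set_option maxRecDepth 20000
-- one kernel check at a time: memory
set_option Elab.async false

namespace CfsgLib.J4Cent.Reps

theorem tabStep_ok0 : (steps.take 5).all tabStepOK = true := by decide +kernel

theorem tabStep_ok1 : ((steps.drop 5).take 5).all tabStepOK = true := by decide +kernel

end CfsgLib.J4Cent.Reps
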