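import Cfsg.Agent.Lib.Presented.J4Cent.RepData

/-! The condition that the table of a named point follows from the table of its parent. -/
set_option autoImplicit false
set_option maxRecDepth 20000
-- one kernel check at a time: memory
set_option Elab.async false

namespace CfsgLib.J4Cent.Reps

open CfsgLib.Presented CfsgLib.Presented.J4M24 CfsgLib.J4Rep Cfsg

/-- the inverse of a letter among the first three -/
def flip3 : ℕ → ℕ
  | 1 => 2
  | 2 => 1
  | x => x

/-- the word of the conjugate of `t` by a word -/
def tauWord (w : List ℕ) : List ℕ := w ++ 3 :: w.reverse.map flip3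

/-- the table of a named point follows from its parent's -/
noncomputable def tabStepOK (e : ℕ × ℕ × List ℕ) : Bool :=
  (e.2.2.all fun x => Nat.blt x 3) &&
    (List.range 112).all fun i =>
      Nat.beq (applyN (tabOf e.1) (2 ^ i) 112) (runM (tauWord e.2.2).reverse (applyN (tabOf e.2.1) (2 ^ i) 112))

end CfsgLib.J4Cent.Reps
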