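import Cfsg.Agent.Lib.Presented.J4Cent.TSet
import Cfsg.Agent.Lib.Presented.J4Cent.RepCheck
import Cfsg.Agent.Lib.J4DCE.Upper
import Cfsg.Agent.Lib.Presented.J4Cent.RepGood0
import Cfsg.Agent.Lib.Presented.J4Cent.RepGood1
import Cfsg.Agent.Lib.Presented.J4Cent.RepGood2
import Cfsg.Agent.Lib.Presented.J4Cent.RepGood3
import Cfsg.Agent.Lib.Presented.J4Cent.Index

/-!
The twenty orbits of cosets found by the enumeration, seen in the named elements, and the resulting bound 77
for the distinguished set of cosets.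
-/
set_option autoImplicit false
set_option maxRecDepth 20000

namespace CfsgLib.J4Cent.Reps

open CfsgLib.Presented CfsgLib.Presented.J4M24 CfsgLib.J4Rep CfsgLib.J4Mult Cfsg Cfsg.Spor

theorem el_flip3 {x : ℕ} (hx : x < 3) : el x * el (flip3 x) = 1 := by
  obtain rfl | rfl | rfl : x = 0 ∨ x = 1 ∨ x = 2 := by omega
  · exact j_rels.1
  · exact mul_inv_cancel _
  · exact inv_mul_cancel _

theorem evW_flip : ∀ w : List ℕ, (∀ x ∈ w, x < 3) → evW el (w.reverse.map flip3) = (evW el w)⁻¹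
  | [], _ => by simp
  | x :: w, h => by
    rw [List.reverse_cons, List.map_append, evW_append, evW_flip w fun y hy => h y (List.mem_cons_of_mem _ hy),
      List.map_singleton, evW_cons, evW_nil, mul_one, evW_cons, mul_inv_rev,
      inv_eq_of_mul_eq_one_right (el_flip3 (h x List.mem_cons_self))]

theorem jemb_word : ∀ w : List ℕ, (∀ x ∈ w, x < 3) →
    J4DCE.J.jemb (evW (ev2 J4DCE.mX J4DCE.mY) w) = evW el w
  | [], _ => map_one _
  | x :: w, h => by
    rw [evW_cons, map_mul, jemb_word w fun y hy => h y (List.mem_cons_of_mem _ hy), evW_cons]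
    congr 1
    have hx := h x List.mem_cons_self
    obtain rfl | rfl | rfl : x = 0 ∨ x = 1 ∨ x = 2 := by omega
    · exact J4DCE.J.jemb_X
    · exact J4DCE.J.jemb_Y
    · rw [ev2, map_inv, J4DCE.J.jemb_Y]; rfl

theorem tabOf_zero : HasTab (tabOf 0) 1 := by
  intro v
  have h := tabBase_ok
  simp only [tabBaseOK, List.all_eq_true, List.mem_range] at h
  rw [map_one, Equiv.Perm.one_apply]
  exact (basis_ext (f := fun x => applyN (tabOf 0) x 112) (g := fun x => x)
    (fun a b => applyN_xor _ a b _) (fun _ _ => rfl) (fun i hi => Nat.eq_of_beq_eq_true (h i hi))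
    112 le_rfl _ v.2).symm

theorem point_spec : ∀ b : ℕ, (b = 0 ∨ ∃ e ∈ steps, e.1 = b) →
    ∃ g : J4, HasTab (tabOf b) g ∧ J4DCE.J.cpt b = g • J4DCE.J.cbase := by
  intro b
  induction b using Nat.strong_induction_on with
  | _ b ih =>
    rintro (rfl | ⟨e, he, rfl⟩)
    · exact ⟨1, tabOf_zero, by rw [one_smul, J4DCE.J.cpt, J4DCE.Cert.pt_zero]⟩
    · have hl := List.all_eq_true.1 link_ok e he
      simp only [linkOK, Bool.and_eq_true, Nat.blt_eq] at hl
      obtain ⟨⟨hi, hlt⟩, hr⟩ := hl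
      have hs := List.all_eq_true.1 tabStep_ok e he
      simp only [tabStepOK, Bool.and_eq_true, List.all_eq_true, List.mem_range, Nat.blt_eq] at hs
      obtain ⟨hw, hs⟩ := hs
      have hp := List.all_eq_true.1 parents_ok e he
      simp only [Bool.or_eq_true, beq_iff_eq, List.any_eq_true] at hp
      obtain ⟨g, hg, hpt⟩ := ih _ hlt hp
      have htau : J4DCE.tau J4DCE.J.jemb J4DCE.J.jt J4DCE.Top.cert.T0
          (J4DCE.Top.cert.facts.get (J4DCE.Top.cert.par.get 13 e.1)).r = evW el (tauWord e.2.2) := by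
        rw [J4DCE.tau_eq J4DCE.J.top_interp.setting (Nat.eq_of_beq_eq_true hr), jemb_word e.2.2 hw, tauWord,
          evW_append, evW_cons, evW_flip e.2.2 hw, mul_assoc]
        rfl
      refine ⟨evW el (tauWord e.2.2) * g, fun v => ?_, ?_⟩
      · have hlet : ∀ x ∈ tauWord e.2.2, x < 34 := fun x hx => by
          simp only [tauWord, List.mem_append, List.mem_cons, List.mem_map, List.mem_reverse] at hx
          rcases hx with hx | rfl | ⟨y, hy, rfl⟩
          · exact lt_trans (hw x hx) (by norm_num)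
          · norm_num
          · have := hw y hy
            obtain rfl | rfl | rfl : y = 0 ∨ y = 1 ∨ y = 2 := by omega
            all_goals norm_num [flip3]
        rw [map_mul, Equiv.Perm.mul_apply, hasMat_word (fun k hk => hasMat_el hk) _ hlet, hg v]
        exact (basis_ext (f := fun x => applyN (tabOf e.1) x 112)
          (g := fun x => runM (tauWord e.2.2).reverse (applyN (tabOf e.2.1) x 112))
          (fun a b => applyN_xor _ a b _) (fun a b => by simp only [applyN_xor, runM_xor])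
          (fun i hi => Nat.eq_of_beq_eq_true (hs i hi)) 112 le_rfl _ v.2).symm
      · rw [mul_smul, ← hpt, ← htau, J4DCE.J.cpt, J4DCE.Cert.pt, Nat.eq_of_beq_eq_true hi, if_pos hlt]
        rfl

/-- the rows are the checked specifications -/
theorem rows_ok : ∀ e ∈ rows, goodOK e.2.1 = true := by
  simp only [rows, List.forall_mem_cons]
  exact ⟨good0_ok, good1_ok, good3_ok, good4_ok, good5_ok, good6_ok, good7_ok, good8_ok, good9_ok,
    good10_ok, good11_ok, good12_ok, good13_ok, good15_ok, good16_ok, good17_ok, good18_ok, good19_ok,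
    good20_ok, good21_ok, List.forall_mem_nil _⟩

theorem rows_named : (rows.all fun e => e.1 == 0 || steps.any fun e' => e'.1 == e.1) = true := by
  decide +kernel

theorem rows_tab : ∀ e ∈ rows, e.2.1.tab = tabOf e.1 := by
  simp only [rows, List.forall_mem_cons]
  repeat' apply And.intro
  all_goals first | rfl | exact List.forall_mem_nil _

theorem rows_chains : (rows.all fun e => J4DCE.Top.chains.any fun c =>
    Nat.beq c.1 e.1 && Nat.beq c.2.2.2 e.2.2.1) = true := by decide +kernel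

theorem rows_live : (J4DCE.Top.live.all fun l => rows.any fun e => Nat.beq e.1 l) = true := by decide +kernel

theorem rows_count : (rows.all fun e => Nat.ble (goodCount e.2.1 * e.2.2.1) (e.2.2.2 * 1771)) = true := by
  decide +kernel

theorem jemb_range : J4DCE.J.jemb.range = mSub := by
  have h : mSub = Subgroup.closure ({jx, jy} : Set J4) := by
    rw [mSub, genBy]
    congr 1
    have e0 : el 0 = jx := rfl
    have e1 : el 1 = jy := rfl
    ext x
    simp [← e0, ← e1, eq_comm]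
  rw [h, MonoidHom.range_eq_map, ← J4DCE.closure_gens, MonoidHom.map_closure, Set.image_pair,
    J4DCE.J.jemb_X, J4DCE.J.jemb_Y]

theorem el_four : el 4 = J4DCE.J.jw := by
  have hx : (PresentedGroup.mk (coxRelators J4.edges ∪ {r | r ∈ J4.extra}) J4.x)⁻¹ =
      PresentedGroup.mk _ J4.x := inv_eq_of_mul_eq_one_right j_rels.1
  have h : el 4 = evW (fun k => [ev4J 0, ev4J 1, ev4J 2, ev4J 3].getD k 1) (prog.getD 0 []) := rfl
  rw [h, J4DCE.J.jw, J4DCE.J.pv, map_mul, map_mul, map_pow, map_inv, map_mul, J4DCE.J.jemb_X, J4DCE.J.jemb_Y,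
    J4DCE.J.jt, jx, jy]
  generalize hX : J4.x = a at hx ⊢
  generalize hY : J4.y = b
  simp [prog, evW, ev4J, ev4, hX, hY, hx, pow_succ, mul_assoc, mul_inv_rev]

theorem subH_eq : J4DCE.J.subH = hSub := by
  rw [J4DCE.J.subH, Subgroup.closure_union, ← MonoidHom.coe_range, Subgroup.closure_eq, jemb_range, mSub,
    genBy, ← Subgroup.closure_union, hSub, genBy, ← el_four]
  congr 1
  ext u
  simp only [Set.mem_union, Set.mem_image, Set.mem_setOf_eq, List.mem_cons, List.not_mem_nil, or_false,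
    Set.mem_singleton_iff]
  aesop

theorem cover (g : J4) : ∃ e ∈ rows, ∀ h : J4, HasTab (tabOf e.1) h →
    J4DCE.J.cpt e.1 = h • J4DCE.J.cbase → ∃ m ∈ mSub, (g : J4 ⧸ J4DCE.J.subH) = m • (h : J4 ⧸ J4DCE.J.subH) := by
  obtain ⟨σ, l, hl, e⟩ := J4DCE.J.cover_all (g : J4 ⧸ J4DCE.J.subH)
  obtain ⟨r, hr, hrl⟩ := List.any_eq_true.1 (List.all_eq_true.1 rows_live l hl)
  refine ⟨r, hr, fun h _ hh => ⟨J4DCE.J.jemb σ, jemb_range ▸ ⟨σ, rfl⟩, ?_⟩⟩
  rw [e, ← Nat.eq_of_beq_eq_true hrl, hh, J4DCE.J.smul_cbase]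

theorem orbit_le {e : ℕ × GoodSpec × ℕ × ℕ} (he : e ∈ rows) {h : J4}
    (hh : J4DCE.J.cpt e.1 = h • J4DCE.J.cbase) :
    Nat.card (MulAction.orbit mSub (h : J4 ⧸ J4DCE.J.subH)) ≤ e.2.2.1 := by
  obtain ⟨c, hc, hce⟩ := List.any_eq_true.1 (List.all_eq_true.1 rows_chains e he)
  simp only [Bool.and_eq_true] at hce
  rw [Nat.card_coe_set_eq, ← Nat.eq_of_beq_eq_true hce.2]
  refine le_trans (Set.ncard_le_ncard ?_ (Set.toFinite _)) (J4DCE.J.orbM_card_le hc)
  rintro _ ⟨⟨m, hm⟩, rfl⟩
  obtain ⟨σ, rfl⟩ := jemb_range.symm ▸ hm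
  refine ⟨σ, ?_⟩
  rw [Nat.eq_of_beq_eq_true hce.1, hh, J4DCE.J.smul_cbase]
  rfl

theorem main (hs : IsSimpleGroup J4) : ∀ H : Subgroup J4, J4DCE.J.subH = H → H = hSub →
    (tSet : Set (J4 ⧸ hSub)).ncard ≤ 77 := by
  rintro H rfl hH
  have hp : ∀ k : Fin rows.length, ∃ g : J4, HasTab (tabOf rows[k].1) g ∧
      J4DCE.J.cpt rows[k].1 = g • J4DCE.J.cbase := fun k => by
    have h := List.all_eq_true.1 rows_named rows[k] (List.getElem_mem k.2)
    simp only [Bool.or_eq_true, beq_iff_eq, List.any_eq_true] at h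
    exact point_spec _ h
  choose g hg hgp using hp
  have key : ∀ H' : Subgroup J4, J4DCE.J.subH = H' →
      (∀ p : J4 ⧸ H', ∃ k, ∃ m ∈ mSub, p = m • QuotientGroup.mk (g k)) ∧
      ∀ k : Fin rows.length, Nat.card (MulAction.orbit mSub (QuotientGroup.mk (g k) : J4 ⧸ H')) ≤
        rows[k].2.2.1 := by
    rintro H' rfl
    refine ⟨fun p => ?_, fun k => orbit_le (List.getElem_mem k.2) (hgp k)⟩
    obtain ⟨x, rfl⟩ := QuotientGroup.mk_surjective p
    obtain ⟨e, he, hm⟩ := cover x
    obtain ⟨k, hk, rfl⟩ := List.getElem_of_mem he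
    exact ⟨⟨k, hk⟩, hm _ (hg ⟨k, hk⟩) (hgp ⟨k, hk⟩)⟩
  obtain ⟨hcov, hn⟩ := key hSub hH
  refine (ncard_tSet_le hs (fun k : Fin rows.length => rows[k].2.1) g (fun k => ?_)
    (fun k => rows_ok _ (List.getElem_mem k.2)) hcov (fun k => rows[k].2.2.1) hn
    (fun k => rows[k].2.2.2) (fun k => ?_)).trans ?_
  · rw [rows_tab rows[k] (List.getElem_mem k.2)]; exact hg k
  · exact Nat.le_of_ble_eq_true (List.all_eq_true.1 rows_count rows[k] (List.getElem_mem k.2))
  · rw [← List.sum_ofFn]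
    decide +kernel

/-- The distinguished set has at most 77 cosets. -/
theorem tSet_le (hs : IsSimpleGroup J4) : (tSet : Set (J4 ⧸ hSub)).ncard ≤ 77 :=
  main hs _ rfl subH_eq

end CfsgLib.J4Cent.Reps
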