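import Cfsg.Agent.Lib.Presented.J4Cent.Action
import Cfsg.Prelude.Def_Sporadic
import Cfsg.Agent.Lib.LargeExtra.Transport

/-!
The structure of an involution centraliser in the presented fourth Janko group, given an upper bound on its
order and the simplicity of the group.
-/
set_option autoImplicit false
set_option maxRecDepth 20000

namespace CfsgLib.J4Cent

open CfsgLib.Presented CfsgLib.J4Mult Cfsg Cfsg.Spor

theorem orderOf_zJ (hs : IsSimpleGroup J4) : orderOf (el 4) = 2 := by
  have : Fact (Nat.Prime 2) := ⟨Nat.prime_two⟩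
  exact orderOf_eq_prime (by rw [pow_two]; exact (symplectic hs).zz) (symplectic hs).ne

variable [Finite J4]

theorem card_ker_ge (hs : IsSimpleGroup J4) : 3 * 2 ^ 13 ≤ Nat.card psi.ker := by
  rw [← card_nSub hs]
  calc Nat.card (genBy nLetters)
      = Nat.card ((genBy nLetters).subgroupOf (genBy kLetters)) :=
        (Nat.card_congr (Subgroup.subgroupOfEquivOfLe
          (genBy_mono fun a ha => List.mem_cons_of_mem _ (List.mem_cons_of_mem _ ha))).toEquiv).symm
    _ ≤ Nat.card psi.ker := Subgroup.card_le_of_le nSub_le_ker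

theorem card_kSub_ge (hs : IsSimpleGroup J4) : 21799895040 ≤ Nat.card (genBy kLetters) := by
  rw [← psi.ker.card_mul_index, Subgroup.index_ker]
  calc 21799895040 = 3 * 2 ^ 13 * 887040 := by norm_num
    _ ≤ Nat.card psi.ker * Nat.card psi.range := Nat.mul_le_mul (card_ker_ge hs) psi_range_ge

theorem genBy_eq_centralizer (hs : IsSimpleGroup J4)
    (hC : Nat.card (Subgroup.centralizer ({el 4} : Set J4)) ≤ 21799895040) :
    genBy kLetters = Subgroup.centralizer ({el 4} : Set J4) :=
  Subgroup.eq_of_le_of_card_ge (genBy_le_centralizer hs) (hC.trans (card_kSub_ge hs))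

theorem structure_of_card (hs : IsSimpleGroup J4)
    (hC : Nat.card (Subgroup.centralizer ({el 4} : Set J4)) ≤ 21799895040) :
    ∃ (Q N M : Subgroup (Subgroup.centralizer ({el 4} : Set J4))), Q.Normal ∧ N.Normal ∧ Q ≤ N ∧ N ≤ M ∧
      Nat.card Q = 2 ^ 13 ∧ Cfsg.IsExtraspecial 2 Q ∧ Nat.card N = 3 * 2 ^ 13 ∧ M.index = 2 ∧
      ∃ (_ : (N.subgroupOf M).Normal), Cfsg.IsM22 (M ⧸ N.subgroupOf M) := by
  rw [← genBy_eq_centralizer hs hC]
  have hcardK : Nat.card (genBy kLetters) = 21799895040 :=
    le_antisymm ((Subgroup.card_le_of_le (genBy_le_centralizer hs)).trans hC) (card_kSub_ge hs)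
  have hQle : genBy qLetters ≤ genBy kLetters :=
    genBy_mono fun a ha => List.mem_cons_of_mem _ (List.mem_cons_of_mem _ (List.mem_cons_of_mem _ ha))
  have hNle : genBy nLetters ≤ genBy kLetters :=
    genBy_mono fun a ha => List.mem_cons_of_mem _ (List.mem_cons_of_mem _ ha)
  have hQn : ((genBy qLetters).subgroupOf (genBy kLetters)).Normal :=
    (Subgroup.normal_subgroupOf_iff_le_normalizer hQle).2 (normalizer_genBy hs).1
  have hNn : ((genBy nLetters).subgroupOf (genBy kLetters)).Normal :=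
    (Subgroup.normal_subgroupOf_iff_le_normalizer hNle).2 (normalizer_genBy hs).2
  let M : Subgroup (genBy kLetters) := Spor.M22.comap psi
  have hM22 : ∀ σ : Equiv.Perm GolayPt, σ ∈ Spor.M22 ↔ σ ∈ M24 ∧ σ none = none ∧ σ (some 0) = some 0 := by
    intro σ
    rw [CfsgLib.Golay.sporM22_eq, CfsgLib.Golay.mem_fixPts]
    simp
  have hmemM : ∀ x, x ∈ M ↔ psi x none = none ∧ psi x (some 0) = some 0 := fun x => by
    rw [Subgroup.mem_comap, hM22]
    exact ⟨fun h => h.2, fun h => ⟨(psi_duad x).1, h⟩⟩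
  have hkerM : psi.ker ≤ M := fun x hx => by
    rw [hmemM, MonoidHom.mem_ker.1 hx]
    exact ⟨rfl, rfl⟩
  have hNk := nSub_le_ker.trans hkerM
  have hindex : M.index = 2 := by
    rw [Subgroup.index_eq_two_iff]
    obtain ⟨a, ha⟩ : ∃ a : genBy kLetters, psi a none = some 0 := by
      rcases swap_exists with h | h
      · exact ⟨⟨el 1, el_mem_genBy (by decide)⟩, by rw [psi_el (k := 1) (by decide)]; exact h⟩
      · exact ⟨⟨el 6, el_mem_genBy (by decide)⟩, by rw [psi_el (k := 6) (by decide)]; exact h⟩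
    refine ⟨a, fun b => ?_⟩
    have hd : ∀ x, (psi x none = none ∧ psi x (some 0) = some 0) ∨
        (psi x none = some 0 ∧ psi x (some 0) = none) := fun x => (psi_duad x).2
    have ha' : psi a (some 0) = none := by
      rcases hd a with ⟨h1, -⟩ | ⟨-, h2⟩
      · rw [ha] at h1; exact absurd h1 (by simp)
      · exact h2
    rcases hd b with ⟨h1, h2⟩ | ⟨h1, h2⟩
    · refine Or.inr ⟨(hmemM b).2 ⟨h1, h2⟩, ?_⟩
      rw [hmemM, map_mul]
      simp [ha, h2]
    · refine Or.inl ⟨?_, fun h => ?_⟩
      · rw [hmemM, map_mul]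
        simp [ha, ha', h1, h2]
      · rw [hmemM, h1] at h
        exact absurd h.1 (by simp)
  have hNcard : Nat.card ((genBy nLetters).subgroupOf (genBy kLetters)) = 3 * 2 ^ 13 :=
    (Nat.card_congr (Subgroup.subgroupOfEquivOfLe hNle).toEquiv).trans (card_nSub hs)
  refine ⟨(genBy qLetters).subgroupOf (genBy kLetters), (genBy nLetters).subgroupOf (genBy kLetters), M,
    hQn, hNn, ?_, hNk, ?_, ?_, hNcard, hindex, ?_⟩
  · exact Subgroup.comap_mono (genBy_mono fun a ha => List.mem_cons_of_mem _ ha)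
  · exact (Nat.card_congr (Subgroup.subgroupOfEquivOfLe hQle).toEquiv).trans (card_qSub hs).1
  · have : Fact (Nat.Prime 2) := ⟨Nat.prime_two⟩
    exact CfsgLib.LargeExtra.isExtraspecial_of_equiv (Subgroup.subgroupOfEquivOfLe hQle).symm (card_qSub hs).2
  have hn : (((genBy nLetters).subgroupOf (genBy kLetters)).subgroupOf M).Normal := hNn.subgroupOf M
  refine ⟨hn, ?_⟩
  set N' := ((genBy nLetters).subgroupOf (genBy kLetters)).subgroupOf M
  let φ : M →* Spor.M22 := psi.subgroupComap Spor.M22
  have hMcard : Nat.card M * 2 = 21799895040 := by rw [← hindex, Subgroup.card_mul_index, hcardK]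
  have hN' : Nat.card N' = 3 * 2 ^ 13 :=
    (Nat.card_congr (Subgroup.subgroupOfEquivOfLe hNk).toEquiv).trans hNcard
  have hkerφ : φ.ker = psi.ker.subgroupOf M := by
    ext x
    rw [MonoidHom.mem_ker, Subgroup.mem_subgroupOf, MonoidHom.mem_ker]
    exact Subtype.ext_iff
  have hφc : Nat.card φ.ker * Nat.card φ.range = Nat.card M := by
    rw [← Subgroup.index_ker, Subgroup.card_mul_index]
  have hr : Nat.card φ.range ≤ 443520 := by
    rw [← CfsgLib.Golay.natCard_sporM22]
    exact Subgroup.card_le_card_group _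
  have hk : Nat.card φ.ker ≤ 3 * 2 ^ 13 := by
    have h1 : Nat.card psi.ker * Nat.card psi.range = 21799895040 := by
      rw [← Subgroup.index_ker, Subgroup.card_mul_index, hcardK]
    have h2 : Nat.card φ.ker = Nat.card psi.ker := by
      rw [hkerφ]
      exact Nat.card_congr (Subgroup.subgroupOfEquivOfLe hkerM).toEquiv
    have h3 := psi_range_ge
    nlinarith [card_ker_ge hs]
  have hker : N' = φ.ker := by
    refine Subgroup.eq_of_le_of_card_ge ?_ (hk.trans_eq hN'.symm)
    rw [hkerφ]
    exact Subgroup.comap_mono nSub_le_ker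
  have hrange : φ.range = ⊤ := by
    refine Subgroup.eq_top_of_card_eq _ (le_antisymm (Subgroup.card_le_card_group _) ?_)
    rw [CfsgLib.Golay.natCard_sporM22]
    nlinarith [Nat.card_pos (α := φ.range)]
  let e : M ⧸ N' ≃* Spor.M22 :=
    (QuotientGroup.quotientMulEquivOfEq hker).trans
      (QuotientGroup.quotientKerEquivOfSurjective φ (MonoidHom.range_eq_top.1 hrange))
  have : IsSimpleGroup Spor.M22 := CfsgLib.Golay.isSimpleGroup_sporM22
  have : Nontrivial (M ⧸ N') := e.toEquiv.nontrivial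
  exact ⟨IsSimpleGroup.isSimpleGroup_of_surjective e.symm.toMonoidHom e.symm.surjective,
    (Nat.card_congr e.toEquiv).trans CfsgLib.Golay.natCard_sporM22⟩

end CfsgLib.J4Cent
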