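import Cfsg.Agent.Lib.Presented.J4Cent.Good

/-!
The bound on the distinguished set of cosets from representatives of all orbits of the subgroup of
elements `0` and `1`, bounds on the orbit sizes and the checked data of the representatives.
-/
set_option autoImplicit false
set_option maxRecDepth 20000

namespace CfsgLib.J4Cent

open CfsgLib.Presented CfsgLib.J4Mult Cfsg.Spor

/-- The number of allowed coordinates of some data. -/
def goodCount (s : GoodSpec) : ℕ := ((List.range 2048).filter fun b => s.mask.testBit b).length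

theorem orbit_stab_card {G X : Type*} [Group G] [MulAction G X] [Finite G] (M : Subgroup G) (p : X) :
    Nat.card M = Nat.card (MulAction.orbit M p) * Nat.card (M ⊓ MulAction.stabilizer G p : Subgroup G) := by
  have e2 : Nat.card (M ⊓ MulAction.stabilizer G p : Subgroup G) =
      Nat.card (MulAction.stabilizer M p) := by
    refine Nat.card_congr
      ⟨fun g => ⟨⟨g.1, g.2.1⟩, g.2.2⟩, fun g => ⟨g.1.1, g.1.2, g.2⟩, fun _ => rfl, fun _ => rfl⟩
  rw [e2, ← Nat.card_prod, Nat.card_congr (MulAction.orbitProdStabilizerEquivGroup M p)]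

/-- Orbit representatives covering all cosets bound the distinguished set. -/
theorem ncard_tSet_le [Finite J4] (hs : IsSimpleGroup J4) {κ : Type*} [Fintype κ] (s : κ → GoodSpec)
    (g : κ → J4) (hrun : ∀ k, HasTab (s k).tab (g k)) (hok : ∀ k, goodOK (s k) = true)
    (hcov : ∀ p : J4 ⧸ hSub, ∃ k, ∃ m ∈ mSub, p = m • QuotientGroup.mk (g k))
    (n : κ → ℕ)
    (hn : ∀ k, Nat.card (MulAction.orbit mSub (QuotientGroup.mk (g k) : J4 ⧸ hSub)) ≤ n k)
    (f : κ → ℕ) (hf : ∀ k, goodCount (s k) * n k ≤ f k * 1771) :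
    (tSet : Set (J4 ⧸ hSub)).ncard ≤ ∑ k, f k := by
  refine ncard_le_sum hSub mSub (el 4) tSet (fun k => QuotientGroup.mk (g k))
    (fun k => mSub ⊓ MulAction.stabilizer J4 (QuotientGroup.mk (g k) : J4 ⧸ hSub))
    (fun _ => inf_le_left) (fun _ g hg => hg.2) hcov (fun k => goodSet (s k))
    (fun k m hm hT => good_of_mem hs (hok k) (hrun k) hm hT) f fun k => ?_
  set K := mSub ⊓ MulAction.stabilizer J4 (QuotientGroup.mk (g k) : J4 ⧸ hSub)
  set C := Nat.card (Subgroup.centralizer ({el 4} : Set J4) ⊓ mSub : Subgroup J4)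
  have hC : 1771 * C ≤ Nat.card mSub := card_inf_le hs mSub le_rfl
  have hM := orbit_stab_card mSub (QuotientGroup.mk (g k) : J4 ⧸ hSub)
  refine Nat.le_of_mul_le_mul_left ?_ (show 0 < 1771 by norm_num)
  calc 1771 * ((goodSet (s k)).card * C) = (goodSet (s k)).card * (1771 * C) := by ring
    _ ≤ goodCount (s k) * Nat.card mSub := Nat.mul_le_mul (card_goodSet_le (s k)) hC
    _ ≤ goodCount (s k) * (n k * Nat.card K) := by
        rw [hM]; exact Nat.mul_le_mul_left _ (Nat.mul_le_mul_right _ (hn k))
    _ = goodCount (s k) * n k * Nat.card K := by ring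
    _ ≤ f k * 1771 * Nat.card K := Nat.mul_le_mul_right _ (hf k)
    _ = 1771 * (f k * Nat.card K) := by ring

end CfsgLib.J4Cent
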